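import Cfsg.Prelude.Def_TwoFusion
import Mathlib.GroupTheory.SpecificGroups.Dihedral
import Mathlib.GroupTheory.Sylow
import Mathlib.Tactic

/-!
Sylow 2-subgroups that are a product of two dihedral groups: coordinates and elementary facts.
-/

set_option autoImplicit false
set_option linter.unusedSectionVars false

namespace CfsgLib.InvChar.DProd

open DihedralGroup

section Dihedral

variable {M : ℕ} [NeZero M]

/-- The central involution of the dihedral group of order `4 * M`. -/
def zDih (M : ℕ) : DihedralGroup (2 * M) := r (M : ZMod (2 * M))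

theorem nat_M_ne_zero : (M : ZMod (2 * M)) ≠ 0 := by
  intro h
  rw [ZMod.natCast_eq_zero_iff] at h
  have := NeZero.pos M
  have := Nat.le_of_dvd this h
  omega

theorem add_self_eq_zero_iff' (i : ZMod (2 * M)) : i + i = 0 ↔ i = 0 ∨ i = (M : ZMod (2 * M)) := by
  constructor
  · intro h
    obtain ⟨k, hk, rfl⟩ : ∃ k : ℕ, k < 2 * M ∧ (k : ZMod (2 * M)) = i :=
      ⟨i.val, ZMod.val_lt i, ZMod.natCast_zmod_val i⟩
    rw [← Nat.cast_add, ZMod.natCast_eq_zero_iff] at h
    obtain ⟨c, hc⟩ := h
    rcases c with _ | _ | c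
    · left; rw [show k = 0 by omega, Nat.cast_zero]
    · right; rw [show k = M by omega]
    · have : 2 * M * 2 ≤ 2 * M * (c + 1 + 1) := Nat.mul_le_mul_left _ (by omega)
      omega
  · rintro (rfl | rfl)
    · exact add_zero 0
    · rw [← Nat.cast_add, ← two_mul, ZMod.natCast_self]

theorem zDih_ne_one : zDih M ≠ 1 := by
  rw [zDih, one_def]
  exact fun h => nat_M_ne_zero (r.inj h)

theorem zDih_sq : zDih M * zDih M = 1 := by
  rw [zDih, r_mul_r, (add_self_eq_zero_iff' _).2 (Or.inr rfl), one_def]

theorem zDih_comm (d : DihedralGroup (2 * M)) : zDih M * d = d * zDih M := by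
  have h : -(M : ZMod (2 * M)) = M :=
    neg_eq_of_add_eq_zero_left ((add_self_eq_zero_iff' _).2 (Or.inr rfl))
  cases d with
  | r i => rw [zDih, r_mul_r, r_mul_r, add_comm]
  | sr i => rw [zDih, r_mul_sr, sr_mul_r, sub_eq_add_neg, h]

theorem r_mul_self_eq_one_iff (i : ZMod (2 * M)) :
    (r i : DihedralGroup (2 * M)) * r i = 1 ↔ r i = 1 ∨ r i = zDih M := by
  rw [r_mul_r, one_def, zDih, r.injEq, r.injEq, r.injEq]
  exact add_self_eq_zero_iff' i

/-- An element with nontrivial square is a rotation. -/
theorem exists_r_of_sq_ne_one {d : DihedralGroup (2 * M)} (h : d * d ≠ 1) :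
    ∃ i, d = r i := by
  cases d with
  | r i => exact ⟨i, rfl⟩
  | sr i => exact absurd (sr_mul_self i) h

theorem sq_eq_r (d : DihedralGroup (2 * M)) : ∃ i, d * d = r (i + i) := by
  cases d with
  | r i => exact ⟨i, r_mul_r i i⟩
  | sr i => exact ⟨0, by rw [sr_mul_self, add_zero, one_def]⟩

/-- The elements commuting with a reflection. -/
theorem commute_sr_iff (i : ZMod (2 * M)) (d : DihedralGroup (2 * M)) :
    d * sr i = sr i * d ↔ d = 1 ∨ d = zDih M ∨ d = sr i ∨ d = sr i * zDih M := by
  constructor
  · intro h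
    cases d with
    | r j =>
      rw [r_mul_sr, sr_mul_r, sr.injEq] at h
      have hj : j + j = 0 := by linear_combination -h
      rcases (add_self_eq_zero_iff' j).1 hj with rfl | rfl
      · exact Or.inl one_def.symm
      · exact Or.inr (Or.inl rfl)
    | sr j =>
      rw [sr_mul_sr, sr_mul_sr, r.injEq] at h
      have hj : (j - i) + (j - i) = 0 := by linear_combination -h
      rcases (add_self_eq_zero_iff' _).1 hj with h' | h'
      · exact Or.inr (Or.inr (Or.inl (by rw [sub_eq_zero.1 h'])))
      · refine Or.inr (Or.inr (Or.inr ?_))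
        rw [zDih, sr_mul_r, sr.injEq]
        linear_combination h'
  · rintro (rfl | rfl | rfl | rfl)
    · rw [one_mul, mul_one]
    · exact zDih_comm _
    · rfl
    · rw [mul_assoc, zDih_comm]

/-- A dihedral 2-group of order at least 8 has trivial part outside `{1, z}` in its centre. -/
theorem central_iff (hM : 2 ≤ M) (d : DihedralGroup (2 * M)) :
    (∀ e, e * d = d * e) ↔ d = 1 ∨ d = zDih M := by
  constructor
  · intro h
    rcases (commute_sr_iff 0 d).1 (h (sr 0)).symm with rfl | rfl | rfl | rfl
    · exact Or.inl rfl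
    · exact Or.inr rfl
    all_goals
      exfalso
      have h1 := h (r 1)
      simp only [zDih, sr_mul_r, r_mul_sr, zero_add] at h1
      have h2 : (1 : ZMod (2 * M)) + 1 = 0 := by linear_combination -(sr.inj h1)
      rw [show (1 : ZMod (2 * M)) + 1 = ((2 : ℕ) : ZMod (2 * M)) by norm_num,
        ZMod.natCast_eq_zero_iff] at h2
      have := Nat.le_of_dvd (by norm_num) h2
      omega
  · rintro (rfl | rfl) e
    · simp
    · exact (zDih_comm e).symm

end Dihedral

variable {G : Type*} [Group G]

/-- Coordinates of a Sylow 2-subgroup isomorphic to a product of two dihedral groups. -/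
structure Frame (S : Sylow 2 G) (M N : ℕ) where
  f : DihedralGroup (2 * M) × DihedralGroup (2 * N) →* G
  inj : Function.Injective f
  range : f.range = (S : Subgroup G)

namespace Frame

variable {S : Sylow 2 G} {M N : ℕ} (F : Frame S M N)

theorem mem (p : DihedralGroup (2 * M) × DihedralGroup (2 * N)) : F.f p ∈ (S : Subgroup G) :=
  F.range ▸ ⟨p, rfl⟩

theorem exists_eq {x : G} (hx : x ∈ (S : Subgroup G)) : ∃ p, F.f p = x := by
  rw [← F.range] at hx
  exact hx

/-- The first factor. -/
def left : Subgroup G := (F.f.comp (MonoidHom.inl _ _)).range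

/-- The second factor. -/
def right : Subgroup G := (F.f.comp (MonoidHom.inr _ _)).range

/-- Exchange the two factors. -/
def swap : Frame S N M where
  f := F.f.comp (MulEquiv.prodComm (M := DihedralGroup (2 * N)) (N := DihedralGroup (2 * M))).toMonoidHom
  inj := F.inj.comp (MulEquiv.injective _)
  range := by
    rw [MonoidHom.range_comp, MonoidHom.range_eq_top.2 (MulEquiv.surjective _),
      ← MonoidHom.range_eq_map, F.range]

theorem swap_f (q : DihedralGroup (2 * N)) (p : DihedralGroup (2 * M)) :
    F.swap.f (q, p) = F.f (p, q) := rfl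

/-- Involutions of the first factor only fuse to involutions of the first factor. -/
def IClosed : Prop :=
  ∀ p : DihedralGroup (2 * M), p * p = 1 → ∀ (g : G) (q : DihedralGroup (2 * M))
    (u : DihedralGroup (2 * N)), g * F.f (p, 1) * g⁻¹ = F.f (q, u) → u = 1

/-- The first factor is strongly closed. -/
def Closed : Prop :=
  ∀ (p : DihedralGroup (2 * M)) (g : G) (q : DihedralGroup (2 * M))
    (u : DihedralGroup (2 * N)), g * F.f (p, 1) * g⁻¹ = F.f (q, u) → u = 1

theorem Closed.stronglyClosed {F : Frame S M N} (h : F.Closed) :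
    Cfsg.IsStronglyClosed F.left (S : Subgroup G) := by
  refine ⟨?_, ?_⟩
  · rintro _ ⟨p, rfl⟩
    exact F.mem _
  · rintro _ ⟨p, rfl⟩ g hg
    obtain ⟨⟨q, u⟩, hqu⟩ := F.exists_eq hg
    obtain rfl : u = 1 := h p g q u hqu.symm
    exact ⟨q, hqu⟩

end Frame

end CfsgLib.InvChar.DProd
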