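import Cfsg.Agent.Lib.InvChar.DihedralProduct.Reflection

/-!
Both dihedral factors of order at least 8: coordinates in which involutions of a factor only
fuse inside that factor.
-/

set_option autoImplicit false
set_option linter.unusedSectionVars false

namespace CfsgLib.InvChar.DProd

open DihedralGroup Subgroup

variable {G : Type*} [Group G] [Finite G] {S : Sylow 2 G} {M N : ℕ} [NeZero M] [NeZero N]

namespace Frame

variable (F : Frame S M N)

/-- Every reflection of the first factor is conjugate to the central involution of that factor. -/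
def Straight : Prop := ∀ i, IsConj (F.f (sr i, 1)) F.z₁

theorem not_isConj_z₂_z₁ (hM : 2 ≤ M) (hN : 2 ≤ N) : ¬ IsConj F.z₂ F.z₁ := fun h =>
  (F.not_isConj_z₁ hM hN).1 h.symm

theorem not_isConj_z₃_z₁ (hM : 2 ≤ M) (hN : 2 ≤ N) : ¬ IsConj F.z₃ F.z₁ := fun h =>
  (F.not_isConj_z₁ hM hN).2 h.symm

theorem not_isConj_z₂_z₃ (hM : 2 ≤ M) (hN : 2 ≤ N) : ¬ IsConj F.z₂ F.z₃ := fun h =>
  (F.swap.not_isConj_z₁ hN hM).2 h

theorem f_mul_z₂ (p : DihedralGroup (2 * M)) : F.f (p, 1) * F.z₂ = F.f (p, zDih N) := by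
  rw [Frame.z₂, ← map_mul, Prod.mk_mul_mk, mul_one, one_mul]

/-- A reflection and its product with the other central involution are conjugate to `z₁` and
`z₃` in some order. -/
theorem reflection_cases (hM : 2 ≤ M) (hN : 2 ≤ N)
    (h2 : ∀ H : Subgroup G, H.Normal → H.index ≠ 2) (i : ZMod (2 * M)) :
    (IsConj (F.f (sr i, 1)) F.z₁ ∧ IsConj (F.f (sr i, zDih N)) F.z₃) ∨
      (IsConj (F.f (sr i, 1)) F.z₃ ∧ IsConj (F.f (sr i, zDih N)) F.z₁) := by
  obtain ⟨g, x, u, hx, hu, hg, hS⟩ := F.exists_reflection_image h2 i (one_mul (1 : DihedralGroup (2 * N)))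
  obtain ⟨c, hc⟩ := F.swap.even_of_two_le hN
  set w := F.f (1, r (c : ZMod (2 * N))) with hw
  have hw2 : w * w = F.z₂ := by
    rw [hw, ← map_mul, Prod.mk_mul_mk, one_mul, r_mul_r, ← Nat.cast_add, ← hc]; rfl
  have hwc : w * F.f (sr i, 1) = F.f (sr i, 1) * w := by
    rw [hw, ← map_mul, ← map_mul, Prod.mk_mul_mk, Prod.mk_mul_mk]
    simp
  have hgw := hS w (F.mem _) hwc
  obtain ⟨a, b, ha, hb, hab⟩ := F.sq_coords hgw
    (by rw [hw2, Frame.z₂, F.f_sq_one (one_mul 1) zDih_sq])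
  rw [hw2] at hab
  have hg2 : g * F.z₂ * g⁻¹ = F.z₂ := by
    rcases ha with rfl | rfl <;> rcases hb with rfl | rfl
    · rw [← Prod.one_eq_mk, map_one, conj_eq_one_iff] at hab
      exact absurd hab F.z₂_ne_one
    · exact hab
    · exact absurd (isConj_iff.2 ⟨g, hab⟩) (F.not_isConj_z₂_z₁ hM hN)
    · exact absurd (isConj_iff.2 ⟨g, hab⟩) (F.not_isConj_z₂_z₃ hM hN)
  -- the second coordinate of the image is central
  have hu' : u = 1 ∨ u = zDih N := by
    rcases sq_one_cases hu with h | h | ⟨j, rfl⟩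
    · exact Or.inl h
    · exact Or.inr h
    · exfalso
      obtain ⟨⟨p, q⟩, hpq⟩ := F.exists_eq hgw
      have hq2 : F.f (p * p, q * q) = F.z₂ := by
        rw [← Prod.mk_mul_mk, map_mul, hpq, conj_mul, hw2, hg2]
      have hcm : F.f (p, q) * F.f (x, sr j) = F.f (x, sr j) * F.f (p, q) := by
        rw [hpq, ← hg, conj_mul, conj_mul, hwc]
      have hq' : q * q = 1 := by
        rcases (commute_sr_iff j q).1 (F.commutes_of_comm hcm).2 with rfl | rfl | rfl | rfl
        · exact one_mul 1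
        · exact zDih_sq
        · exact sr_mul_self j
        · rw [zDih, sr_mul_r]; exact sr_mul_self _
      exact zDih_ne_one ((F.f_ext hq2).2 ▸ hq' : zDih N = 1)
  have hgz : g * F.f (sr i, zDih N) * g⁻¹ = F.f (x, u * zDih N) := by
    rw [← F.f_mul_z₂, ← conj_mul, hg, hg2, Frame.z₂, ← map_mul, Prod.mk_mul_mk, mul_one]
  have hne : F.f (x, u) ≠ 1 := by
    rw [← hg, Ne, conj_eq_one_iff, ← map_one F.f]
    exact fun h => by cases (F.f_ext h).1
  have hne' : F.f (x, u) ≠ F.z₂ := by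
    rw [← hg, ← hg2, Ne, mul_left_inj, mul_right_inj]
    exact fun h => by cases (F.f_ext h).1
  rcases hx with rfl | rfl <;> rcases hu' with rfl | rfl
  · exact absurd (by rw [← Prod.one_eq_mk, map_one]) hne
  · exact absurd rfl hne'
  · exact Or.inl ⟨isConj_iff.2 ⟨g, hg⟩, isConj_iff.2 ⟨g, by rw [hgz, one_mul]; rfl⟩⟩
  · exact Or.inr ⟨isConj_iff.2 ⟨g, hg⟩, isConj_iff.2 ⟨g, by rw [hgz, zDih_sq]; rfl⟩⟩

/-- Coordinates in which the reflections of the first factor are conjugate to `z₁`. -/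
theorem exists_straight (hM : 2 ≤ M) (hN : 2 ≤ N)
    (h2 : ∀ H : Subgroup G, H.Normal → H.index ≠ 2) :
    ∃ F' : Frame S M N, F'.Straight ∧ F'.z₁ = F.z₁ ∧ ∀ q, F'.f (1, q) = F.f (1, q) := by
  have hex : ∀ i, ∃ e : DihedralGroup (2 * N), (e = 1 ∨ e = zDih N) ∧
      IsConj (F.f (sr i, e)) F.z₁ := fun i =>
    (F.reflection_cases hM hN h2 i).elim (fun h => ⟨1, Or.inl rfl, h.1⟩)
      (fun h => ⟨_, Or.inr rfl, h.2⟩)
  obtain ⟨e₀, he₀, hc₀⟩ := hex 0
  obtain ⟨e₁, he₁, hc₁⟩ := hex 1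
  have hcen : ∀ {e : DihedralGroup (2 * N)}, (e = 1 ∨ e = zDih N) → ∀ x, e * x = x * e := by
    rintro e (rfl | rfl) x
    · simp
    · exact zDih_comm x
  have hinv : ∀ {e : DihedralGroup (2 * N)}, (e = 1 ∨ e = zDih N) → e * e = 1 := by
    rintro e (rfl | rfl)
    · exact one_mul 1
    · exact zDih_sq
  let χ := mkChi M e₀ e₁ (hinv he₀) (hinv he₁) (hcen he₀ e₁)
  refine ⟨F.twist χ (mkChi_comm _ _ _ _ _ (hcen he₀) (hcen he₁)), fun i => ?_, ?_,
    twist_f_right _ _ _⟩
  all_goals obtain ⟨c, hc⟩ := F.even_of_two_le hM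
  all_goals simp only [Frame.z₁, twist_f, χ, mkChi_zDih _ _ _ _ _ hc, one_mul]
  rw [mkChi_sr]
  rcases zmod_two_cases (par M i) with h | h
  · rw [if_pos h]
    exact (F.isConj_sr (j := 0) (by rw [h, map_zero]) e₀).trans hc₀
  · rw [if_neg (by rw [h]; decide)]
    exact (F.isConj_sr (j := 1) (by rw [h, map_one]) e₁).trans hc₁

/-- In straight coordinates the products with the other central involution go to `z₃`. -/
theorem isConj_sr_z (hM : 2 ≤ M) (hN : 2 ≤ N) (h2 : ∀ H : Subgroup G, H.Normal → H.index ≠ 2)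
    (hs : F.Straight) (i : ZMod (2 * M)) : IsConj (F.f (sr i, zDih N)) F.z₃ := by
  rcases F.reflection_cases hM hN h2 i with h | h
  · exact h.2
  · exact absurd (h.1.symm.trans (hs i)) (F.not_isConj_z₃_z₁ hM hN)

/-- In straight coordinates, a conjugate of `z₁` outside the first factor is a double reflection. -/
theorem classify (hM : 2 ≤ M) (hN : 2 ≤ N) (h2 : ∀ H : Subgroup G, H.Normal → H.index ≠ 2)
    (hs : F.Straight) (hs' : F.swap.Straight) {q : DihedralGroup (2 * M)} {u : DihedralGroup (2 * N)}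
    (hq : q * q = 1) (hu : u * u = 1) (h : IsConj (F.f (q, u)) F.z₁) :
    u = 1 ∨ ∃ i j, q = sr i ∧ u = sr j := by
  rcases sq_one_cases hu with rfl | rfl | ⟨j, rfl⟩
  · exact Or.inl rfl
  · exfalso
    rcases sq_one_cases hq with rfl | rfl | ⟨i, rfl⟩
    · exact F.not_isConj_z₂_z₁ hM hN h
    · exact F.not_isConj_z₃_z₁ hM hN h
    · exact F.not_isConj_z₃_z₁ hM hN ((F.isConj_sr_z hM hN h2 hs i).symm.trans h)
  · rcases sq_one_cases hq with rfl | rfl | ⟨i, rfl⟩
    · exact absurd ((hs' j).symm.trans h) (F.not_isConj_z₂_z₁ hM hN)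
    · exact absurd ((F.swap.isConj_sr_z hN hM h2 hs' j).symm.trans h) (F.not_isConj_z₃_z₁ hM hN)
    · exact Or.inr ⟨i, j, rfl, rfl⟩

/-- A double reflection is not conjugate to `z₁`. -/
theorem double_ne (hM : 2 ≤ M) (hN : 2 ≤ N) (h2 : ∀ H : Subgroup G, H.Normal → H.index ≠ 2)
    (hs : F.Straight) (hs' : F.swap.Straight) (i : ZMod (2 * M)) (j : ZMod (2 * N)) :
    ¬ IsConj (F.f (sr i, sr j)) F.z₁ := by
  intro h
  obtain ⟨g, hg, hS⟩ := exists_extremal F.z₁_central h
  have hcomm : ∀ (a : DihedralGroup (2 * M)) (b : DihedralGroup (2 * N)),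
      a * sr i = sr i * a → b * sr j = sr j * b →
        F.f (a, b) * F.f (sr i, sr j) = F.f (sr i, sr j) * F.f (a, b) := by
    intro a b ha hb
    rw [← map_mul, ← map_mul, Prod.mk_mul_mk, Prod.mk_mul_mk, ha, hb]
  obtain ⟨⟨q, v⟩, hqv⟩ := F.exists_eq (hS (F.f (sr i, 1)) (F.mem _) (hcomm _ _ rfl (by simp)))
  obtain ⟨hq, hv⟩ := F.sq_one_of_conj (F.f_sq_one (sr_mul_self i) (one_mul 1)) hqv.symm
  have hconj : IsConj (F.f (q, v)) F.z₁ := (isConj_iff.2 ⟨g, hqv.symm⟩).symm.trans (hs i)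
  have hc : g * F.f (1, sr j) * g⁻¹ = F.f (q * zDih M, v) := by
    have e : F.f (sr i, sr j) = F.f (sr i, 1) * F.f (1, sr j) := by
      rw [← map_mul, Prod.mk_mul_mk, mul_one, one_mul]
    have h3 : F.f (q, v) * (g * F.f (1, sr j) * g⁻¹) = F.f (zDih M, 1) := by
      rw [hqv, conj_mul, ← e, hg]; rfl
    rw [← inv_mul_cancel_left (F.f (q, v)) (g * F.f (1, sr j) * g⁻¹), h3, ← map_inv, ← map_mul,
      Prod.inv_mk, Prod.mk_mul_mk, mul_one, inv_eq_of_mul_eq_one_right hq,
      inv_eq_of_mul_eq_one_right hv]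
  obtain ⟨i', j', rfl, rfl⟩ : ∃ i' j', q = sr i' ∧ v = sr j' := by
    rcases F.classify hM hN h2 hs hs' hq hv hconj with rfl | h'
    · exfalso
      have hx : IsConj F.z₂ (F.f (q * zDih M, 1)) :=
        (hs' j).symm.trans (isConj_iff.2 ⟨g, hc⟩)
      rcases sq_one_cases hq with rfl | rfl | ⟨i', rfl⟩
      · rw [one_mul] at hx
        exact F.not_isConj_z₂_z₁ hM hN hx
      · have hxc := isConj_comm.1 hx
        rw [zDih_sq, ← Prod.one_eq_mk, map_one, isConj_one_right] at hxc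
        exact F.z₂_ne_one hxc
      · rw [zDih, sr_mul_r] at hx
        exact F.not_isConj_z₂_z₁ hM hN (hx.trans (hs _))
    · exact h'
  obtain ⟨⟨q', v'⟩, hqv'⟩ := F.exists_eq (hS F.z₁ (F.mem _) (hcomm _ _ (zDih_comm _) (by simp)))
  obtain ⟨hq', hv'⟩ := F.sq_one_of_conj (F.f_sq_one zDih_sq (one_mul 1)) hqv'.symm
  have hconj' : IsConj (F.f (q', v')) F.z₁ := (isConj_iff.2 ⟨g, hqv'.symm⟩).symm
  have hprod : IsConj (F.f (sr i' * q', sr j' * v')) F.z₁ := by
    rw [← Prod.mk_mul_mk, map_mul, hqv, hqv', conj_mul]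
    refine (isConj_iff.2 ⟨g, rfl⟩).symm.trans ?_
    rw [Frame.z₁, ← map_mul, Prod.mk_mul_mk, one_mul, zDih, sr_mul_r]
    exact hs _
  have hcm : F.f (q', v') * F.f (sr i', sr j') = F.f (sr i', sr j') * F.f (q', v') := by
    rw [hqv', hqv, conj_mul, conj_mul,
      show F.z₁ * F.f (sr i, 1) = F.f (sr i, 1) * F.z₁ from (F.z₁_central _ (F.mem _)).symm]
  obtain ⟨hq'', hv''⟩ := F.commutes_of_comm hcm
  obtain ⟨h5, h6⟩ : (sr i' * q') * (sr i' * q') = 1 ∧ (sr j' * v') * (sr j' * v') = 1 := by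
    constructor
    · rw [mul_assoc, ← mul_assoc q', hq'', mul_assoc (sr i'), hq', mul_one, sr_mul_self]
    · rw [mul_assoc, ← mul_assoc v', hv'', mul_assoc (sr j'), hv', mul_one, sr_mul_self]
  rcases F.classify hM hN h2 hs hs' hq' hv' hconj' with rfl | ⟨a, b, rfl, rfl⟩
  · rcases F.classify hM hN h2 hs hs' h5 h6 hprod with h7 | ⟨a, b, h7, h8⟩
    · rw [mul_one] at h7
      cases h7
    · rcases sq_one_cases hq' with rfl | rfl | ⟨a', rfl⟩
      · rw [← Prod.one_eq_mk, map_one] at hqv'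
        exact F.z₁_ne_one (conj_eq_one_iff.1 hqv'.symm)
      · -- `z₁` is fixed by `g`
        have h9 : F.f (sr i, sr j) = F.z₁ :=
          mul_left_cancel (mul_right_cancel (hg.trans hqv'))
        cases (F.f_ext h9).1
      · rw [sr_mul_sr] at h7; cases h7
  · rcases F.classify hM hN h2 hs hs' h5 h6 hprod with h7 | ⟨a', b', h7, -⟩
    · -- the only possibility left makes `z₁` fuse with a conjugate of `z₂`
      have hb : (sr b : DihedralGroup (2 * N)) = sr j' := by
        rw [← inv_sr j']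
        exact eq_inv_of_mul_eq_one_right h7
      have h10 : sr i' * sr a = 1 ∨ sr i' * sr a = zDih M := by
        rw [sr_mul_sr]
        exact (r_mul_self_eq_one_iff _).1 (by rw [← sr_mul_sr]; exact h5)
      rw [hb] at hqv'
      rcases h10 with h10 | h10
      · have ha : (sr a : DihedralGroup (2 * M)) = sr i' := by
          rw [← inv_sr i']; exact eq_inv_of_mul_eq_one_right h10
        rw [ha, hqv] at hqv'
        cases (F.f_ext (mul_left_cancel (mul_right_cancel hqv'.symm))).1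
      · have ha : (sr a : DihedralGroup (2 * M)) = sr i' * zDih M := by
          rw [← h10, ← mul_assoc, sr_mul_self, one_mul]
        rw [ha, ← hc] at hqv'
        exact F.z₁_ne_one (by
          cases (F.f_ext (mul_left_cancel (mul_right_cancel hqv'.symm))).2)
    · rw [sr_mul_sr] at h7; cases h7

theorem iClosed_of_straight (hM : 2 ≤ M) (hN : 2 ≤ N)
    (h2 : ∀ H : Subgroup G, H.Normal → H.index ≠ 2) (hs : F.Straight) (hs' : F.swap.Straight) :
    F.IClosed := by
  intro p hp g q u h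
  obtain ⟨hq, hu⟩ := F.sq_one_of_conj (F.f_sq_one hp (one_mul 1)) h
  rcases sq_one_cases hp with rfl | h'
  · rw [← Prod.one_eq_mk, map_one, mul_one, mul_inv_cancel, ← map_one F.f] at h
    exact (F.f_ext h).2.symm
  · have hconj : IsConj (F.f (q, u)) F.z₁ := by
      refine (isConj_iff.2 ⟨g, h⟩).symm.trans ?_
      rcases h' with rfl | ⟨i, rfl⟩
      · exact IsConj.refl _
      · exact hs i
    rcases F.classify hM hN h2 hs hs' hq hu hconj with h'' | ⟨i, j, rfl, rfl⟩
    · exact h''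
    · exact absurd hconj (F.double_ne hM hN h2 hs hs' i j)

/-- Both factors of order at least 8: coordinates with both factors closed on involutions. -/
theorem exists_iClosed_two_le (F : Frame S M N) (hM : 2 ≤ M) (hN : 2 ≤ N)
    (h2 : ∀ H : Subgroup G, H.Normal → H.index ≠ 2) :
    ∃ F' : Frame S M N, F'.IClosed ∧ F'.swap.IClosed := by
  obtain ⟨F₁, hs₁, -, -⟩ := F.exists_straight hM hN h2
  obtain ⟨F₂, hs₂, hz, hf⟩ := F₁.swap.exists_straight hN hM h2
  have hs₃ : F₂.swap.Straight := by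
    intro i
    show IsConj (F₂.f (1, sr i)) (F₂.f (1, zDih M))
    rw [hf, hf]
    exact hs₁ i
  exact ⟨F₂.swap, F₂.swap.iClosed_of_straight hM hN h2 hs₃ hs₂,
    F₂.iClosed_of_straight hN hM h2 hs₂ hs₃⟩

end Frame

end CfsgLib.InvChar.DProd
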