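import Cfsg.Agent.Lib.InvChar.DihedralProduct.FourFactor

/-!
Second factor a four-group: coordinates in which involutions of a factor only fuse inside that
factor.
-/

set_option autoImplicit false
set_option linter.unusedSectionVars false

namespace CfsgLib.InvChar.DProd

open DihedralGroup Subgroup

section Kset

variable {M : ℕ} [NeZero M]

/-- The centraliser of a reflection. -/
def Kset (i : ZMod (2 * M)) : Finset (DihedralGroup (2 * M)) :=
  {1, zDih M, sr i, sr i * zDih M}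

theorem mem_Kset_iff {i : ZMod (2 * M)} {d : DihedralGroup (2 * M)} :
    d ∈ Kset i ↔ d * sr i = sr i * d := by
  rw [commute_sr_iff]
  simp [Kset]

theorem Kset_comm {i : ZMod (2 * M)} {p q : DihedralGroup (2 * M)} (hp : p ∈ Kset i)
    (hq : q ∈ Kset i) : p * q = q * p := by
  have hz : zDih M * sr i = sr i * zDih M := zDih_comm _
  simp only [Kset, Finset.mem_insert, Finset.mem_singleton] at hp hq
  rcases hp with rfl | rfl | rfl | rfl <;> rcases hq with rfl | rfl | rfl | rfl <;>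
    first
      | rfl
      | simp only [one_mul, mul_one]
      | exact zDih_comm _
      | exact (zDih_comm _).symm
      | simp only [mul_assoc, hz]

theorem Kset_card (i : ZMod (2 * M)) : (Kset i).card = 4 := by
  have h1 : (1 : DihedralGroup (2 * M)) ≠ zDih M := fun h => zDih_ne_one h.symm
  have h2 : ∀ j, (1 : DihedralGroup (2 * M)) ≠ sr j := fun j h => by rw [one_def] at h; cases h
  have h3 : ∀ j, zDih M ≠ sr j := fun j h => by rw [zDih] at h; cases h
  have h4 : sr i ≠ sr i * zDih M := fun h => zDih_ne_one (by rwa [eq_comm, mul_eq_left] at h)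
  have h5 : sr i * zDih M = sr (i + (M : ZMod (2 * M))) := sr_mul_r _ _
  unfold Kset
  rw [Finset.card_insert_of_notMem, Finset.card_insert_of_notMem, Finset.card_insert_of_notMem,
    Finset.card_singleton]
  · simpa using h4
  · simp only [Finset.mem_insert, Finset.mem_singleton, h5]
    rintro (h | h) <;> exact h3 _ h
  · simp only [Finset.mem_insert, Finset.mem_singleton, h5]
    rintro (h | h | h)
    · exact h1 h
    all_goals exact h2 _ h

theorem sq_one_of_mem_Kset {i : ZMod (2 * M)} {p : DihedralGroup (2 * M)} (hp : p ∈ Kset i) :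
    p * p = 1 := by
  simp only [Kset, Finset.mem_insert, Finset.mem_singleton] at hp
  rcases hp with rfl | rfl | rfl | rfl
  · exact one_mul 1
  · exact zDih_sq
  · exact sr_mul_self i
  · rw [zDih, sr_mul_r]; exact sr_mul_self _

theorem r_pow_eq (i : ZMod (2 * M)) (k : ℕ) :
    (r i : DihedralGroup (2 * M)) ^ k = r (i * (k : ZMod (2 * M))) := by
  induction k with
  | zero => rw [pow_zero, Nat.cast_zero, mul_zero, one_def]
  | succ k ih => rw [pow_succ, ih, r_mul_r, Nat.cast_succ, mul_add, mul_one]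

end Kset

variable {G : Type*} [Group G] [Finite G] {S : Sylow 2 G} {M : ℕ} [NeZero M]

namespace Frame

variable (F : Frame S M 1)

/-- A conjugation out of a reflection covers the centre of `S`. -/
theorem exists_reflection_map (h2 : ∀ H : Subgroup G, H.Normal → H.index ≠ 2)
    (i : ZMod (2 * M)) (e : DihedralGroup (2 * 1)) :
    ∃ (g : G) (x : DihedralGroup (2 * M)) (u : DihedralGroup (2 * 1)), (x = 1 ∨ x = zDih M) ∧
      g * F.f (sr i, e) * g⁻¹ = F.f (x, u) ∧
      ∀ x' v', (x' = 1 ∨ x' = zDih M) → ∃ p q, p ∈ Kset i ∧ g * F.f (p, q) * g⁻¹ = F.f (x', v') := by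
  classical
  obtain ⟨g, x, u, hx, -, hg, hS⟩ := F.exists_reflection_image h2 i (four_sq e)
  refine ⟨g, x, u, hx, hg, fun x' v' hx' => ?_⟩
  set A : Finset (DihedralGroup (2 * M) × DihedralGroup (2 * 1)) := Kset i ×ˢ Finset.univ with hA
  set ψ : DihedralGroup (2 * M) × DihedralGroup (2 * 1) →
      DihedralGroup (2 * M) × DihedralGroup (2 * 1) :=
    fun y => Function.invFun F.f (g * F.f y * g⁻¹) with hψdef
  have hψ : ∀ y ∈ A, F.f (ψ y) = g * F.f y * g⁻¹ := by
    rintro ⟨p, q⟩ hy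
    refine Function.invFun_eq (F.exists_eq (hS _ (F.mem _) ?_))
    rw [F.f_mul, F.f_mul, mem_Kset_iff.1 (Finset.mem_product.1 hy).1, four_comm q e]
  have hcard : (A.image ψ).card = 4 * 4 := by
    rw [Finset.card_image_of_injOn, hA, Finset.card_product, Kset_card, Finset.card_univ,
      DihedralGroup.card]
    intro y hy y' hy' he
    have h := congrArg F.f he
    rw [hψ y hy, hψ y' hy'] at h
    exact F.inj (mul_left_cancel (mul_right_cancel h))
  have hsq : ∀ y ∈ A, (ψ y).1 * (ψ y).1 = 1 := by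
    rintro ⟨p, q⟩ hy
    have h := (hψ _ hy).symm
    exact (F.sq_one_of_conj (p' := (ψ (p, q)).1) (q' := (ψ (p, q)).2)
      (F.f_sq_one (sq_one_of_mem_Kset (Finset.mem_product.1 hy).1) (four_sq q)) h).1
  obtain ⟨y₀, hy₀, j, hj⟩ : ∃ y₀ ∈ A, ∃ j, (ψ y₀).1 = sr j := by
    by_contra hne
    push Not at hne
    have hsub : A.image ψ ⊆ ({1, zDih M} : Finset _) ×ˢ Finset.univ := by
      intro w hw
      obtain ⟨y, hy, rfl⟩ := Finset.mem_image.1 hw
      refine Finset.mem_product.2 ⟨?_, Finset.mem_univ _⟩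
      rcases sq_one_cases (hsq y hy) with h | h | ⟨j, h⟩
      · simp [h]
      · simp [h]
      · exact absurd h (hne y hy j)
    have h := Finset.card_le_card hsub
    rw [hcard, Finset.card_product, Finset.card_univ, DihedralGroup.card] at h
    have h' : ({1, zDih M} : Finset (DihedralGroup (2 * M))).card ≤ 2 := Finset.card_le_two
    omega
  have himg : A.image ψ = Kset j ×ˢ (Finset.univ : Finset (DihedralGroup (2 * 1))) := by
    refine Finset.eq_of_subset_of_card_le (fun w hw => ?_) (le_of_eq ?_)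
    · obtain ⟨y, hy, rfl⟩ := Finset.mem_image.1 hw
      refine Finset.mem_product.2 ⟨mem_Kset_iff.2 ?_, Finset.mem_univ _⟩
      rw [← hj]
      refine (F.commutes_of_comm (a := ψ y) (b := ψ y₀) ?_).1
      rw [hψ y hy, hψ y₀ hy₀, conj_mul, conj_mul, F.f_mul, F.f_mul,
        Kset_comm (Finset.mem_product.1 hy).1 (Finset.mem_product.1 hy₀).1, four_comm y.2]
    · rw [hcard, Finset.card_product, Kset_card, Finset.card_univ, DihedralGroup.card]
  have hmem : (x', v') ∈ A.image ψ := by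
    rw [himg]
    refine Finset.mem_product.2 ⟨?_, Finset.mem_univ _⟩
    rcases hx' with rfl | rfl <;> simp [Kset]
  obtain ⟨⟨p, q⟩, hy, he⟩ := Finset.mem_image.1 hmem
  exact ⟨p, q, (Finset.mem_product.1 hy).1, by rw [← hψ _ hy, he]⟩

theorem isConj_sr_mul_z (hM : 2 ≤ M) (i : ZMod (2 * M)) (q : DihedralGroup (2 * 1)) :
    IsConj (F.f (sr i * zDih M, q)) (F.f (sr i, q)) := by
  obtain ⟨c, hc⟩ := F.even_of_two_le hM
  rw [zDih, sr_mul_r]
  exact F.isConj_sr (by rw [map_add, par_nat_M_of_even hc, add_zero]) q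

theorem Kset_kind (hM : 2 ≤ M) {i : ZMod (2 * M)} {p : DihedralGroup (2 * M)} (hp : p ∈ Kset i)
    (q : DihedralGroup (2 * 1)) :
    p = 1 ∨ p = zDih M ∨ IsConj (F.f (p, q)) (F.f (sr i, q)) := by
  simp only [Kset, Finset.mem_insert, Finset.mem_singleton] at hp
  rcases hp with rfl | rfl | rfl | rfl
  · exact Or.inl rfl
  · exact Or.inr (Or.inl rfl)
  · exact Or.inr (Or.inr (IsConj.refl _))
  · exact Or.inr (Or.inr (F.isConj_sr_mul_z hM i q))

/-- The normaliser maps reflections to reflections. -/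
theorem image_sr (hM : 2 ≤ M) {n : G} (hn : n ∈ normalizer ((S : Subgroup G) : Set G))
    (l : ZMod (2 * M)) : ∃ l' e, n * F.f (sr l, 1) * n⁻¹ = F.f (sr l', e) := by
  obtain ⟨⟨p, q⟩, hpq⟩ := F.exists_eq ((mem_normalizer_iff.1 hn _).1 (F.mem (sr l, 1)))
  have hp := (F.sq_one_of_conj (F.f_sq_one (sr_mul_self l) (one_mul 1)) hpq.symm).1
  have hnc : ¬ (p = 1 ∨ p = zDih M) := by
    intro hp'
    obtain ⟨x', v', hx', hback⟩ := F.image_central hM (inv_mem hn) hp' q
    rw [hpq, inv_inv] at hback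
    have e : F.f (sr l, 1) = F.f (x', v') := by rw [← hback]; group
    rcases hx' with rfl | rfl
    · cases (F.f_ext e).1
    · cases (F.f_ext e).1
  rcases sq_one_cases hp with h | h | ⟨l', rfl⟩
  · exact absurd (Or.inl h) hnc
  · exact absurd (Or.inr h) hnc
  · exact ⟨l', q, hpq.symm⟩

/-- The normaliser does not map reflections of both classes into one class. -/
theorem image_par_ne (hM : 2 ≤ M) {n : G} (hn : n ∈ normalizer ((S : Subgroup G) : Set G))
    {l m l' m' : ZMod (2 * M)} {e e' : DihedralGroup (2 * 1)}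
    (h1 : n * F.f (sr l, 1) * n⁻¹ = F.f (sr l', e)) (h2 : n * F.f (sr m, 1) * n⁻¹ = F.f (sr m', e'))
    (hlm : par M l ≠ par M m) : par M l' ≠ par M m' := by
  intro hp
  obtain ⟨c, hc⟩ := F.even_of_two_le hM
  have hx : n * F.f (r (m - l), 1) * n⁻¹ = F.f (r (m' - l'), e * e') := by
    rw [← sr_mul_sr l m, ← sr_mul_sr l' m']
    have e1 : F.f (sr l * sr m, 1) = F.f (sr l, 1) * F.f (sr m, 1) := by
      simp only [F.f_mul, mul_one]
    rw [e1, ← conj_mul, h1, h2, F.f_mul]
  have h3 := congrArg (fun y => y ^ M) hx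
  simp only [conj_pow, ← map_pow, Prod.pow_mk, one_pow, r_pow_eq] at h3
  obtain ⟨t, ht⟩ := exists_two_mul_of_par (i := m - l - 1) (by
    rw [map_sub, map_sub, map_one]
    rcases zmod_two_cases (par M l) with a | a <;> rcases zmod_two_cases (par M m) with b | b <;>
      rw [a, b] at hlm ⊢ <;> first | exact absurd rfl hlm | decide)
  obtain ⟨t', ht'⟩ := exists_two_mul_of_par (i := m' - l') (by rw [map_sub, hp, sub_self])
  have hzero : ((2 * M : ℕ) : ZMod (2 * M)) = 0 := ZMod.natCast_self _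
  push_cast at hzero
  have hodd : (m - l) * (M : ZMod (2 * M)) = (M : ZMod (2 * M)) := by
    linear_combination (M : ZMod (2 * M)) * ht + t * hzero
  have heven : (m' - l') * (M : ZMod (2 * M)) = 0 := by
    linear_combination (M : ZMod (2 * M)) * ht' + t' * hzero
  have he : (e * e') ^ M = 1 := by
    rw [hc, ← two_mul, pow_mul, pow_two, four_sq, one_pow]
  rw [hodd, heven, he, ← one_def, ← Prod.one_eq_mk, map_one, conj_eq_one_iff] at h3
  exact F.z₁_ne_one h3

theorem isConj_image {n : G} {p : DihedralGroup (2 * M)} {i' : ZMod (2 * M)}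
    {e₀ v v' : DihedralGroup (2 * 1)} (h : n * F.f (p, 1) * n⁻¹ = F.f (sr i', e₀))
    (hv : n * F.f (1, v) * n⁻¹ = F.f (1, v')) : n * F.f (p, v) * n⁻¹ = F.f (sr i', e₀ * v') := by
  rw [F.f_split, ← conj_mul, h, hv]
  simp only [F.f_mul, mul_one]

/-- The reflection classes in a coset of the four-group. -/
theorem exists_orbit (hM : 2 ≤ M) {n : G} {a b : DihedralGroup (2 * 1)} (h : F.Cyc n a b)
    (i : ZMod (2 * M)) : ∃ e, ∀ v, v ≠ 1 → IsConj (F.f (sr i, e * v)) (F.f (sr i, e * a)) := by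
  obtain ⟨n', b', h', i', e₀, hpar, hn'⟩ : ∃ n' b', F.Cyc n' a b' ∧ ∃ i' e₀,
      par M i' = par M i ∧ n' * F.f (sr i, 1) * n'⁻¹ = F.f (sr i', e₀) := by
    obtain ⟨i', e₀, h1⟩ := F.image_sr hM h.mem i
    by_cases hp : par M i' = par M i
    · exact ⟨n, b, h, i', e₀, hp, h1⟩
    · obtain ⟨i'', e₁, h2⟩ := F.image_sr hM h.mem i'
      obtain ⟨t, ht⟩ := h.exists_map e₀
      refine ⟨n * n, a * b, h.sq, i'', e₁ * t, ?_, ?_⟩
      · have hne := F.image_par_ne hM h.mem h1 h2 (Ne.symm hp)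
        rcases zmod_two_cases (par M i) with x | x <;> rcases zmod_two_cases (par M i') with y | y <;>
          rcases zmod_two_cases (par M i'') with z | z <;> simp_all
      · calc n * n * F.f (sr i, 1) * (n * n)⁻¹ = n * (n * F.f (sr i, 1) * n⁻¹) * n⁻¹ := by group
          _ = _ := by rw [h1, F.isConj_image h2 ht]
  obtain ⟨e, t, ht, hte⟩ : ∃ e t, n' * F.f (1, e) * n'⁻¹ = F.f (1, t) ∧ e₀ * t = e := by
    rcases four_cases a b' h'.ha h'.hb h'.hab e₀ with rfl | rfl | rfl | rfl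
    · exact ⟨1, 1, by rw [← Prod.one_eq_mk, map_one, mul_one, mul_inv_cancel], one_mul 1⟩
    · exact ⟨b', _, h'.map_b, four_cancel _ _⟩
    · exact ⟨a * e₀, a, h'.map_ab, four_comm _ _⟩
    · exact ⟨a, b', h'.map_a, by simp only [mul_assoc, four_sq, mul_one]⟩
  have step : ∀ v v', n' * F.f (1, v) * n'⁻¹ = F.f (1, v') →
      IsConj (F.f (sr i, e * v)) (F.f (sr i, e * v')) := by
    intro v v' hv
    have hev : n' * F.f (1, e * v) * n'⁻¹ = F.f (1, t * v') := by
      have e1 : ∀ x y, F.f ((1 : DihedralGroup (2 * M)), x * y) = F.f (1, x) * F.f (1, y) :=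
        fun x y => by simp only [F.f_mul, mul_one]
      rw [e1, ← conj_mul, ht, hv, ← e1]
    refine (isConj_iff.2 ⟨n', F.isConj_image hn' hev⟩).trans ?_
    rw [← mul_assoc, hte]
    exact F.isConj_sr hpar _
  refine ⟨e, fun v hv => ?_⟩
  rcases four_cases a b' h'.ha h'.hb h'.hab v with rfl | rfl | rfl | rfl
  · exact absurd rfl hv
  · exact IsConj.refl _
  · exact (step _ _ h'.map_a).symm
  · exact step _ _ h'.map_ab

namespace Cyc

variable {F} {n : G} {a b : DihedralGroup (2 * 1)}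

/-- The fusion type of a central element. -/
theorem central_type (h : F.Cyc n a b) (hM : 2 ≤ M) {x : DihedralGroup (2 * M)}
    (hx : x = 1 ∨ x = zDih M) (u : DihedralGroup (2 * 1)) :
    (x = 1 ∧ u = 1) ∨ (x = zDih M ∧ u = 1 ∧ IsConj (F.f (x, u)) F.z₁) ∨
      (x = 1 ∧ u ≠ 1 ∧ IsConj (F.f (x, u)) (F.f (1, a))) ∨
      (x = zDih M ∧ u ≠ 1 ∧ IsConj (F.f (x, u)) (F.f (zDih M, a))) := by
  rcases eq_or_ne u 1 with rfl | hu
  · rcases hx with rfl | rfl
    · exact Or.inl ⟨rfl, rfl⟩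
    · exact Or.inr (Or.inl ⟨rfl, rfl, IsConj.refl _⟩)
  · rcases hx with rfl | rfl
    · exact Or.inr (Or.inr (Or.inl ⟨rfl, hu, h.isConj_right hM (Or.inl rfl) hu⟩))
    · exact Or.inr (Or.inr (Or.inr ⟨rfl, hu, h.isConj_right hM (Or.inr rfl) hu⟩))

theorem reflection_type (h : F.Cyc n a b) (hM : 2 ≤ M)
    (h2 : ∀ H : Subgroup G, H.Normal → H.index ≠ 2) (i : ZMod (2 * M))
    (q : DihedralGroup (2 * 1)) :
    IsConj (F.f (sr i, q)) F.z₁ ∨ IsConj (F.f (sr i, q)) (F.f (1, a)) ∨
      IsConj (F.f (sr i, q)) (F.f (zDih M, a)) := by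
  obtain ⟨g, x, u, hx, hg, -⟩ := F.exists_reflection_map h2 i q
  have hc : IsConj (F.f (sr i, q)) (F.f (x, u)) := isConj_iff.2 ⟨g, hg⟩
  rcases h.central_type hM hx u with ⟨rfl, rfl⟩ | ⟨-, -, h'⟩ | ⟨-, -, h'⟩ | ⟨-, -, h'⟩
  · rw [← Prod.one_eq_mk, map_one, isConj_one_left] at hc
    rw [← map_one F.f] at hc
    cases (F.f_ext hc).1
  · exact Or.inl (hc.trans h')
  · exact Or.inr (Or.inl (hc.trans h'))
  · exact Or.inr (Or.inr (hc.trans h'))

theorem pre_z₁ (h : F.Cyc n a b) (hM : 2 ≤ M) {i : ZMod (2 * M)} {p : DihedralGroup (2 * M)}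
    (hp : p ∈ Kset i) {q : DihedralGroup (2 * 1)} (hc : IsConj (F.f (p, q)) F.z₁) :
    (p = zDih M ∧ q = 1) ∨ IsConj (F.f (sr i, q)) F.z₁ := by
  obtain ⟨n1, n2, -⟩ := h.not_isConj hM
  rcases F.Kset_kind hM hp q with rfl | rfl | h'
  · rcases h.central_type hM (Or.inl rfl) q with ⟨-, rfl⟩ | ⟨e, -⟩ | ⟨-, -, h'⟩ | ⟨e, -⟩
    · rw [← Prod.one_eq_mk, map_one, isConj_one_right] at hc
      exact absurd hc F.z₁_ne_one
    · exact absurd e.symm zDih_ne_one
    · exact absurd (h'.symm.trans hc) n1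
    · exact absurd e.symm zDih_ne_one
  · rcases eq_or_ne q 1 with rfl | hq
    · exact Or.inl ⟨rfl, rfl⟩
    · exact absurd ((h.isConj_right hM (Or.inr rfl) hq).symm.trans hc) n2
  · exact Or.inr (h'.symm.trans hc)

theorem pre_one (h : F.Cyc n a b) (hM : 2 ≤ M) {i : ZMod (2 * M)} {p : DihedralGroup (2 * M)}
    (hp : p ∈ Kset i) {q : DihedralGroup (2 * 1)} (hc : IsConj (F.f (p, q)) (F.f (1, a))) :
    p = 1 ∨ IsConj (F.f (sr i, q)) (F.f (1, a)) := by
  obtain ⟨n1, -, n3⟩ := h.not_isConj hM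
  rcases F.Kset_kind hM hp q with rfl | rfl | h'
  · exact Or.inl rfl
  · rcases eq_or_ne q 1 with rfl | hq
    · exact absurd hc.symm n1
    · exact absurd (hc.symm.trans (h.isConj_right hM (Or.inr rfl) hq)) n3
  · exact Or.inr (h'.symm.trans hc)

theorem pre_z (h : F.Cyc n a b) (hM : 2 ≤ M) {i : ZMod (2 * M)} {p : DihedralGroup (2 * M)}
    (hp : p ∈ Kset i) {q : DihedralGroup (2 * 1)} (hc : IsConj (F.f (p, q)) (F.f (zDih M, a))) :
    p = zDih M ∨ IsConj (F.f (sr i, q)) (F.f (zDih M, a)) := by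
  obtain ⟨-, -, n3⟩ := h.not_isConj hM
  rcases F.Kset_kind hM hp q with rfl | rfl | h'
  · rcases eq_or_ne q 1 with rfl | hq
    · rw [← Prod.one_eq_mk, map_one] at hc
      have := isConj_one_right.1 hc
      rw [← map_one F.f] at this
      exact absurd (F.f_ext this).2 h.ha
    · exact absurd ((h.isConj_right hM (Or.inl rfl) hq).symm.trans hc) n3
  · exact Or.inl rfl
  · exact Or.inr (h'.symm.trans hc)

/-- If the conjugation pulls the four-group or its translate back into itself, it covers the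
four-group. -/
theorem image_W (g : G)
    (hW : (∀ v, v ≠ 1 → ∃ w, g * F.f (1, w) * g⁻¹ = F.f (1, v)) ∨
      (∀ v, v ≠ 1 → ∃ w, g * F.f (zDih M, w) * g⁻¹ = F.f (zDih M, v))) :
    ∀ v, ∃ w, g * F.f (1, w) * g⁻¹ = F.f (1, v) := by
  intro v
  rcases eq_or_ne v 1 with rfl | hv
  · exact ⟨1, by rw [← Prod.one_eq_mk, map_one, mul_one, mul_inv_cancel]⟩
  rcases hW with hW | hW
  · exact hW v hv
  · obtain ⟨v', hv', hv''⟩ := four_exists_other v hv
    obtain ⟨w', hw'⟩ := hW v' hv'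
    obtain ⟨w'', hw''⟩ := hW (v' * v) hv''
    refine ⟨w' * w'', ?_⟩
    have e : F.f ((1 : DihedralGroup (2 * M)), w' * w'') = F.f (zDih M, w') * F.f (zDih M, w'') := by
      rw [F.f_mul, zDih_sq]
    rw [e, ← conj_mul, hw', hw'', F.f_mul, zDih_sq, four_cancel]

/-- In each coset of the four-group one reflection fuses to `z₁`, the others to `z₁` times the
four-group. -/
theorem exists_reflection_types (h : F.Cyc n a b) (hM : 2 ≤ M)
    (h2 : ∀ H : Subgroup G, H.Normal → H.index ≠ 2) (i : ZMod (2 * M)) :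
    ∃ e, IsConj (F.f (sr i, e)) F.z₁ ∧
      ∀ v, v ≠ 1 → IsConj (F.f (sr i, e * v)) (F.f (zDih M, a)) := by
  obtain ⟨n1, n2, n3⟩ := h.not_isConj hM
  obtain ⟨e, horb⟩ := F.exists_orbit hM h i
  have hq : ∀ q : DihedralGroup (2 * 1),
      q = e ∨ IsConj (F.f (sr i, q)) (F.f (sr i, e * a)) := by
    intro q
    by_cases hne : q = e
    · exact Or.inl hne
    · have h1 := horb (e * q) (four_mul_ne_one (Ne.symm hne))
      rw [four_cancel] at h1
      exact Or.inr h1
  -- a reflection of the coset fuses to `z₁`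
  have hA : IsConj (F.f (sr i, e)) F.z₁ ∨ IsConj (F.f (sr i, e * a)) F.z₁ := by
    by_contra hne
    push Not at hne
    obtain ⟨g, x, u, hx, hg, hsurj⟩ := F.exists_reflection_map h2 i e
    obtain ⟨p, q, hp, hpq⟩ := hsurj (zDih M) 1 (Or.inr rfl)
    have hz : g * F.z₁ * g⁻¹ = F.z₁ := by
      rcases h.pre_z₁ hM hp (isConj_iff.2 ⟨g, hpq⟩) with ⟨rfl, rfl⟩ | hc
      · exact hpq
      · exfalso
        rcases hq q with rfl | h'
        · exact hne.1 hc
        · exact hne.2 (h'.symm.trans hc)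
    have hg' : g * F.f (sr i * zDih M, e) * g⁻¹ = F.f (x * zDih M, u) := by
      have e1 : ∀ y v, F.f (y * zDih M, v) = F.f (y, v) * F.z₁ := fun y v => by
        simp only [Frame.z₁, F.f_mul, mul_one]
      rw [e1, e1, ← conj_mul, hg, hz]
    have hc : IsConj (F.f (x, u)) (F.f (x * zDih M, u)) :=
      (isConj_iff.2 ⟨g, hg⟩).symm.trans
        ((F.isConj_sr_mul_z hM i e).symm.trans (isConj_iff.2 ⟨g, hg'⟩))
    rcases h.central_type hM hx u with ⟨rfl, rfl⟩ | ⟨-, -, h'⟩ | ⟨rfl, hu, -⟩ | ⟨rfl, hu, -⟩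
    · rw [one_mul, ← Prod.one_eq_mk, map_one] at hc
      exact F.z₁_ne_one (isConj_one_right.1 hc)
    · exact hne.1 ((isConj_iff.2 ⟨g, hg⟩).trans h')
    · rw [one_mul] at hc
      exact n3 ((h.isConj_right hM (Or.inl rfl) hu).symm.trans
        (hc.trans (h.isConj_right hM (Or.inr rfl) hu)))
    · rw [zDih_sq] at hc
      exact n3 ((h.isConj_right hM (Or.inl rfl) hu).symm.trans
        (hc.symm.trans (h.isConj_right hM (Or.inr rfl) hu)))
  -- the three others do not
  have hB : ¬ IsConj (F.f (sr i, e * a)) F.z₁ := by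
    intro hβ
    obtain ⟨g, x, u, hx, hg, hsurj⟩ := F.exists_reflection_map h2 i (e * a)
    have hc : IsConj (F.f (x, u)) F.z₁ := (isConj_iff.2 ⟨g, hg⟩).symm.trans hβ
    obtain ⟨rfl, rfl⟩ : x = zDih M ∧ u = 1 := by
      rcases h.central_type hM hx u with ⟨rfl, rfl⟩ | ⟨hx', hu', -⟩ | ⟨-, -, h'⟩ | ⟨-, -, h'⟩
      · rw [← Prod.one_eq_mk, map_one] at hc
        exact absurd (isConj_one_right.1 hc) F.z₁_ne_one
      · exact ⟨hx', hu'⟩
      · exact absurd (h'.symm.trans hc) n1
      · exact absurd (h'.symm.trans hc) n2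
    have hW : ∀ v, ∃ w, g * F.f (1, w) * g⁻¹ = F.f (1, v) := by
      refine image_W g ?_
      by_cases hα : IsConj (F.f (sr i, e)) (F.f (1, a))
      · refine Or.inr fun v hv => ?_
        obtain ⟨p, q, hp, hpq⟩ := hsurj (zDih M) v (Or.inr rfl)
        rcases h.pre_z hM hp ((isConj_iff.2 ⟨g, hpq⟩).trans (h.isConj_right hM (Or.inr rfl) hv))
          with rfl | hc'
        · exact ⟨q, hpq⟩
        · exfalso
          rcases hq q with rfl | h'
          · exact n3 (hα.symm.trans hc')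
          · exact n2 (hc'.symm.trans (h'.trans hβ))
      · refine Or.inl fun v hv => ?_
        obtain ⟨p, q, hp, hpq⟩ := hsurj 1 v (Or.inl rfl)
        rcases h.pre_one hM hp ((isConj_iff.2 ⟨g, hpq⟩).trans (h.isConj_right hM (Or.inl rfl) hv))
          with rfl | hc'
        · exact ⟨q, hpq⟩
        · exfalso
          rcases hq q with rfl | h'
          · exact hα hc'
          · exact n1 (hc'.symm.trans (h'.trans hβ))
    obtain ⟨w, v, hv, hwa, hw⟩ : ∃ w v, v ≠ 1 ∧ w ≠ a ∧ g * F.f (1, w) * g⁻¹ = F.f (1, v) := by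
      obtain ⟨wa, hwa⟩ := hW a
      obtain ⟨wb, hwb⟩ := hW b
      by_cases hw : wa = a
      · refine ⟨wb, b, h.hb, fun hwb' => h.hab ?_, hwb⟩
        rw [hwb', ← hw, hwa] at hwb
        exact (F.f_ext hwb).2
      · exact ⟨wa, a, h.ha, hw, hwa⟩
    have hg' : g * F.f (sr i, e * a * w) * g⁻¹ = F.f (zDih M, v) := by
      have e1 : F.f (sr i, e * a * w) = F.f (sr i, e * a) * F.f (1, w) := by
        simp only [F.f_mul, mul_one]
      rw [e1, ← conj_mul, hg, hw]
      simp only [F.f_mul, mul_one, one_mul]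
    have h1 := horb (a * w) (four_mul_ne_one (Ne.symm hwa))
    rw [← mul_assoc] at h1
    exact n2 ((h.isConj_right hM (Or.inr rfl) hv).symm.trans
      ((isConj_iff.2 ⟨g, hg'⟩).symm.trans (h1.trans hβ)))
  have hα : IsConj (F.f (sr i, e)) F.z₁ := hA.resolve_right hB
  refine ⟨e, hα, fun v hv => (horb v hv).trans ?_⟩
  rcases h.reflection_type hM h2 i (e * a) with h' | hβ | h'
  · exact absurd h' hB
  · exfalso
    obtain ⟨g, x, u, hx, hg, hsurj⟩ := F.exists_reflection_map h2 i (e * a)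
    have hc : IsConj (F.f (x, u)) (F.f (1, a)) := (isConj_iff.2 ⟨g, hg⟩).symm.trans hβ
    obtain rfl : x = 1 := by
      rcases h.central_type hM hx u with ⟨rfl, -⟩ | ⟨-, -, h'⟩ | ⟨rfl, -⟩ | ⟨-, -, h'⟩
      · rfl
      · exact absurd (hc.symm.trans h') n1
      · rfl
      · exact absurd (hc.symm.trans h') n3
    have hW : ∀ v, ∃ w, g * F.f (1, w) * g⁻¹ = F.f (1, v) := by
      refine image_W g (Or.inr fun v hv => ?_)
      obtain ⟨p, q, hp, hpq⟩ := hsurj (zDih M) v (Or.inr rfl)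
      rcases h.pre_z hM hp ((isConj_iff.2 ⟨g, hpq⟩).trans (h.isConj_right hM (Or.inr rfl) hv))
        with rfl | hc'
      · exact ⟨q, hpq⟩
      · exfalso
        rcases hq q with rfl | h'
        · exact n2 (hc'.symm.trans hα)
        · exact n3 (hβ.symm.trans (h'.symm.trans hc'))
    obtain ⟨w, hw⟩ := hW u
    cases (F.f_ext (mul_left_cancel (mul_right_cancel (hg.trans hw.symm)))).1
  · exact h'

end Cyc

/-- Four-group as second factor: coordinates with both factors closed on involutions. -/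
theorem exists_iClosed_one (F : Frame S M 1) (hM : 2 ≤ M)
    (h2 : ∀ H : Subgroup G, H.Normal → H.index ≠ 2) :
    ∃ F' : Frame S M 1, F'.IClosed ∧ F'.swap.IClosed := by
  obtain ⟨F, n, a, b, h⟩ := F.exists_cyc hM h2
  obtain ⟨n1, n2, n3⟩ := h.not_isConj hM
  obtain ⟨c, hc⟩ := F.even_of_two_le hM
  obtain ⟨e₀, hα₀, hβ₀⟩ := h.exists_reflection_types hM h2 0
  obtain ⟨e₁, hα₁, hβ₁⟩ := h.exists_reflection_types hM h2 1
  let χ := mkChi M e₀ e₁ (four_sq e₀) (four_sq e₁) (four_comm e₀ e₁)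
  let F' := F.twist χ (fun p q => four_comm _ _)
  have hcen : ∀ {x}, (x = 1 ∨ x = zDih M) → ∀ v, F'.f (x, v) = F.f (x, v) := by
    intro x hx v
    rcases hx with rfl | rfl
    · simp only [F', twist_f, map_one, mul_one]
    · simp only [F', twist_f, χ, mkChi_zDih _ _ _ _ _ hc, mul_one]
  have hz : F'.z₁ = F.z₁ := hcen (Or.inr rfl) 1
  have hsr : ∀ i, IsConj (F'.f (sr i, 1)) F'.z₁ ∧
      ∀ v, v ≠ 1 → IsConj (F'.f (sr i, v)) (F.f (zDih M, a)) := by
    intro i
    rw [hz]
    simp only [F', twist_f, χ, mkChi_sr, one_mul]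
    rcases zmod_two_cases (par M i) with hp | hp
    · simp only [hp, ↓reduceIte]
      exact ⟨(F.isConj_sr (j := 0) (by rw [hp, map_zero]) _).trans hα₀, fun v hv => by
        rw [four_comm]
        exact (F.isConj_sr (j := 0) (by rw [hp, map_zero]) _).trans (hβ₀ v hv)⟩
    · simp only [hp, one_ne_zero, ↓reduceIte]
      exact ⟨(F.isConj_sr (j := 1) (by rw [hp, map_one]) _).trans hα₁, fun v hv => by
        rw [four_comm]
        exact (F.isConj_sr (j := 1) (by rw [hp, map_one]) _).trans (hβ₁ v hv)⟩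
  refine ⟨F', ?_, ?_⟩
  · intro p hp g q u hg
    obtain ⟨hq, -⟩ := F'.sq_one_of_conj (F'.f_sq_one hp (one_mul 1)) hg
    by_contra hu
    have hT : IsConj (F'.f (q, u)) (F.f (1, a)) ∨ IsConj (F'.f (q, u)) (F.f (zDih M, a)) := by
      rcases sq_one_cases hq with rfl | rfl | ⟨i, rfl⟩
      · exact Or.inl (by rw [hcen (Or.inl rfl)]; exact h.isConj_right hM (Or.inl rfl) hu)
      · exact Or.inr (by rw [hcen (Or.inr rfl)]; exact h.isConj_right hM (Or.inr rfl) hu)
      · exact Or.inr ((hsr i).2 u hu)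
    rcases sq_one_cases hp with rfl | hp'
    · rw [← Prod.one_eq_mk, map_one, mul_one, mul_inv_cancel, ← map_one F'.f] at hg
      exact hu (F'.f_ext hg).2.symm
    · have h1 : IsConj (F'.f (q, u)) F.z₁ := by
        refine (isConj_iff.2 ⟨g, hg⟩).symm.trans ?_
        rw [← hz]
        rcases hp' with rfl | ⟨i, rfl⟩
        · exact IsConj.refl _
        · exact (hsr i).1
      rcases hT with h' | h'
      · exact n1 (h'.symm.trans h1)
      · exact n2 (h'.symm.trans h1)
  · intro p hp g q u hg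
    rw [swap_f, swap_f] at hg
    rcases eq_or_ne p 1 with rfl | hp'
    · rw [← Prod.one_eq_mk, map_one, mul_one, mul_inv_cancel, ← map_one F'.f] at hg
      exact (F'.f_ext hg).1.symm
    obtain ⟨hu, -⟩ := F'.sq_one_of_conj (F'.f_sq_one (one_mul 1) (four_sq p)) hg
    have h1 : IsConj (F'.f (u, q)) (F.f (1, a)) := by
      refine (isConj_iff.2 ⟨g, hg⟩).symm.trans ?_
      rw [hcen (Or.inl rfl)]
      exact h.isConj_right hM (Or.inl rfl) hp'
    rcases sq_one_cases hu with rfl | rfl | ⟨i, rfl⟩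
    · rfl
    · exfalso
      rw [hcen (Or.inr rfl)] at h1
      rcases eq_or_ne q 1 with rfl | hq'
      · exact n1 h1.symm
      · exact n3 (h1.symm.trans (h.isConj_right hM (Or.inr rfl) hq'))
    · exfalso
      rcases eq_or_ne q 1 with rfl | hq'
      · exact n1 (h1.symm.trans (hz ▸ (hsr i).1))
      · exact n3 (h1.symm.trans ((hsr i).2 q hq'))

end Frame

end CfsgLib.InvChar.DProd
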