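import Cfsg.Agent.Lib.InvChar.DihedralProduct.Basics
import Cfsg.Agent.Lib.Comp.ExtLayer
import Cfsg.Agent.Lib.Recog.M12Eight.Isolated

/-!
Central involutions of a dihedral-by-dihedral Sylow 2-subgroup and their fusion.
-/

set_option autoImplicit false
set_option linter.unusedSectionVars false

namespace CfsgLib.InvChar.DProd

open DihedralGroup Subgroup

variable {G : Type*} [Group G] [Finite G]

/-- An element normalising a Sylow 2-subgroup has an odd power in it. -/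
theorem exists_odd_pow_mem (S : Sylow 2 G) {n : G} (hn : n ∈ normalizer ((S : Subgroup G) : Set G)) :
    ∃ b : ℕ, Odd b ∧ n ^ b ∈ (S : Subgroup G) := by
  obtain ⟨k, b, hb, hord⟩ := Nat.exists_eq_two_pow_mul_odd (orderOf_pos n).ne'
  refine ⟨b, hb, ?_⟩
  have hp : IsPGroup 2 (zpowers (n ^ b)) := by
    refine IsPGroup.of_card_dvd_pow (n := k) ?_
    rw [Nat.card_zpowers]
    exact orderOf_dvd_of_pow_eq_one (by rw [← pow_mul, mul_comm, ← hord, pow_orderOf_eq_one])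
  have hle : zpowers (n ^ b) ≤ normalizer ((S : Subgroup G) : Set G) := zpowers_le.2 (pow_mem hn b)
  have h : (S : Subgroup G) ⊔ zpowers (n ^ b) = (S : Subgroup G) :=
    S.3 (IsPGroup.to_sup_of_normal_left' S.2 hp hle) le_sup_left
  exact h.le (mem_sup_right (mem_zpowers _))

/-- Conjugation by an element normalising `S` cannot interchange two elements centralising `S`. -/
theorem not_swap (S : Sylow 2 G) {n : G} (hn : n ∈ normalizer ((S : Subgroup G) : Set G)) {x y : G}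
    (hx : ∀ s ∈ (S : Subgroup G), s * x = x * s) (h1 : n * x * n⁻¹ = y) (h2 : n * y * n⁻¹ = x) :
    x = y := by
  obtain ⟨b, ⟨j, hj⟩, hb⟩ := exists_odd_pow_mem S hn
  have hpow : ∀ i : ℕ, n ^ (2 * i) * x * (n ^ (2 * i))⁻¹ = x := by
    intro i
    induction i with
    | zero => simp
    | succ i ih =>
      calc n ^ (2 * (i + 1)) * x * (n ^ (2 * (i + 1)))⁻¹
          = n * (n * (n ^ (2 * i) * x * (n ^ (2 * i))⁻¹) * n⁻¹) * n⁻¹ := by
            rw [show 2 * (i + 1) = 2 * i + 1 + 1 by ring, pow_succ', pow_succ']; group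
        _ = x := by rw [ih, h1, h2]
  have h := hx _ hb
  calc x = n ^ b * x * (n ^ b)⁻¹ := by rw [h, mul_inv_cancel_right]
    _ = n * (n ^ (2 * j) * x * (n ^ (2 * j))⁻¹) * n⁻¹ := by rw [hj, pow_succ']; group
    _ = y := by rw [hpow, h1]

namespace Frame

variable {S : Sylow 2 G} {M N : ℕ} [NeZero M] [NeZero N] (F : Frame S M N)

theorem exists_two_pow (F : Frame S M N) : ∃ k, M = 2 ^ k := by
  obtain ⟨n, hn⟩ := S.2.exists_card_eq
  have h1 : Nat.card F.f.range = Nat.card (DihedralGroup (2 * M) × DihedralGroup (2 * N)) :=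
    (Nat.card_congr (MonoidHom.ofInjective F.inj).toEquiv).symm
  rw [F.range, hn, Nat.card_prod, DihedralGroup.nat_card] at h1
  obtain ⟨k, -, hk⟩ := (Nat.dvd_prime_pow Nat.prime_two).1
    (h1 ▸ (Dvd.dvd.mul_right (Dvd.dvd.mul_left (Dvd.dvd.mul_left (dvd_refl M) 2) 2) _) :
      M ∣ 2 ^ n)
  exact ⟨k, hk⟩

theorem even_of_two_le (F : Frame S M N) (hM : 2 ≤ M) : ∃ c, M = c + c := by
  obtain ⟨k, hk⟩ := F.exists_two_pow
  rcases k with _ | k
  · rw [hk] at hM; norm_num at hM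
  · exact ⟨2 ^ k, by rw [hk, pow_succ]; ring⟩

/-- The central involution of the first factor. -/
def z₁ : G := F.f (zDih M, 1)

/-- The central involution of the second factor. -/
def z₂ : G := F.f (1, zDih N)

/-- Their product. -/
def z₃ : G := F.f (zDih M, zDih N)

theorem swap_z₁ : F.swap.z₁ = F.z₂ := rfl

theorem swap_z₂ : F.swap.z₂ = F.z₁ := rfl

theorem swap_z₃ : F.swap.z₃ = F.z₃ := rfl

theorem f_ext {p p' : DihedralGroup (2 * M)} {q q' : DihedralGroup (2 * N)}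
    (h : F.f (p, q) = F.f (p', q')) : p = p' ∧ q = q' := Prod.mk.injEq .. ▸ F.inj h

theorem commutes_of_comm {a b : DihedralGroup (2 * M) × DihedralGroup (2 * N)}
    (h : F.f a * F.f b = F.f b * F.f a) : a.1 * b.1 = b.1 * a.1 ∧ a.2 * b.2 = b.2 * a.2 := by
  rw [← map_mul, ← map_mul] at h
  exact ⟨congrArg Prod.fst (F.inj h), congrArg Prod.snd (F.inj h)⟩

theorem central_of {a : DihedralGroup (2 * M)} {b : DihedralGroup (2 * N)} (ha : a = 1 ∨ a = zDih M)
    (hb : b = 1 ∨ b = zDih N) : ∀ s ∈ (S : Subgroup G), s * F.f (a, b) = F.f (a, b) * s := by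
  intro s hs
  obtain ⟨⟨p, q⟩, rfl⟩ := F.exists_eq hs
  rw [← map_mul, ← map_mul, Prod.mk_mul_mk, Prod.mk_mul_mk]
  have h1 : p * a = a * p := by rcases ha with rfl | rfl <;> simp [zDih_comm]
  have h2 : q * b = b * q := by rcases hb with rfl | rfl <;> simp [zDih_comm]
  rw [h1, h2]

theorem z₁_central : ∀ s ∈ (S : Subgroup G), s * F.z₁ = F.z₁ * s :=
  F.central_of (Or.inr rfl) (Or.inl rfl)

theorem z₂_central : ∀ s ∈ (S : Subgroup G), s * F.z₂ = F.z₂ * s :=
  F.central_of (Or.inl rfl) (Or.inr rfl)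

theorem z₃_central : ∀ s ∈ (S : Subgroup G), s * F.z₃ = F.z₃ * s :=
  F.central_of (Or.inr rfl) (Or.inr rfl)

theorem z₁_ne_one : F.z₁ ≠ 1 := fun h => by
  rw [← map_one F.f] at h
  exact zDih_ne_one (congrArg Prod.fst (F.inj h))

theorem z₂_ne_one : F.z₂ ≠ 1 := F.swap.z₁_ne_one

theorem z₁_ne_z₂ : F.z₁ ≠ F.z₂ := fun h => zDih_ne_one (F.f_ext h).1

theorem z₁_ne_z₃ : F.z₁ ≠ F.z₃ := fun h => zDih_ne_one (F.f_ext h).2.symm

/-- Conjugation onto an element centralising `S`, carrying the centraliser in `S` into `S`. -/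
theorem exists_extremal {t z : G} (hz : ∀ s ∈ (S : Subgroup G), s * z = z * s) (h : IsConj t z) :
    ∃ g : G, g * t * g⁻¹ = z ∧ ∀ a ∈ (S : Subgroup G), a * t = t * a →
      g * a * g⁻¹ ∈ (S : Subgroup G) := by
  obtain ⟨g, hg⟩ := isConj_iff.1 h
  obtain ⟨g', h1, h2⟩ := CfsgLib.Recog.M12Eight.exists_extremal S
    (fun s hs => mem_centralizer_singleton_iff.2 (hz s hs)) hg
  exact ⟨g', h1, fun a ha hat => (h2 a ha hat).1⟩

/-- The image in `S` of the square of an element, if an involution, is central in `S`. -/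
theorem sq_coords {g a : G} (ha : g * a * g⁻¹ ∈ (S : Subgroup G))
    (hb : (a * a) * (a * a) = 1) :
    ∃ x y, (x = 1 ∨ x = zDih M) ∧ (y = 1 ∨ y = zDih N) ∧ g * (a * a) * g⁻¹ = F.f (x, y) := by
  obtain ⟨⟨p, q⟩, hpq⟩ := F.exists_eq ha
  refine ⟨p * p, q * q, ?_⟩
  have e : g * (a * a) * g⁻¹ = F.f (p * p, q * q) := by
    rw [← Prod.mk_mul_mk, map_mul, hpq]; group
  have h1 : F.f (p * p, q * q) * F.f (p * p, q * q) = 1 := by
    rw [← e, conj_mul, hb, mul_one, mul_inv_cancel]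
  rw [← map_mul, ← map_one F.f, Prod.mk_mul_mk] at h1
  obtain ⟨i, hi⟩ := sq_eq_r p
  obtain ⟨j, hj⟩ := sq_eq_r q
  have h2 := congrArg Prod.fst (F.inj h1)
  have h3 := congrArg Prod.snd (F.inj h1)
  simp only [hi, hj, Prod.fst_one, Prod.snd_one] at h2 h3
  exact ⟨hi ▸ (r_mul_self_eq_one_iff _).1 h2, hj ▸ (r_mul_self_eq_one_iff _).1 h3, e⟩

/-- No element normalising `S` maps `z₁` to `z₃`. -/
theorem normalizer_z₁_ne_z₃ (hM : 2 ≤ M) (hN : 2 ≤ N) {n : G}
    (hn : n ∈ normalizer ((S : Subgroup G) : Set G)) : n * F.z₁ * n⁻¹ ≠ F.z₃ := by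
  intro h
  have hS : ∀ s ∈ (S : Subgroup G), n * s * n⁻¹ ∈ (S : Subgroup G) := fun s hs =>
    (mem_normalizer_iff.1 hn s).1 hs
  obtain ⟨c, hc⟩ := F.even_of_two_le hM
  set x := F.f (r 1, 1) with hx
  have hxM : x ^ M = F.z₁ := by
    rw [hx, ← map_pow, Prod.pow_mk, one_pow, r_one_pow]; rfl
  obtain ⟨⟨p, q⟩, hpq⟩ := F.exists_eq (hS x (F.mem _))
  have hy : F.f (p ^ M, q ^ M) = F.f (zDih M, zDih N) := by
    rw [← Prod.pow_mk, map_pow, hpq, conj_pow, hxM, h]; rfl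
  obtain ⟨hpM, hqM⟩ := F.f_ext hy
  have hsq : ∀ {K : ℕ} (d : DihedralGroup (2 * K)), d * d = 1 → d ^ M = 1 := fun d hd => by
    rw [hc, ← two_mul, pow_mul, pow_two, hd, one_pow]
  obtain ⟨i, hi⟩ := exists_r_of_sq_ne_one (d := p) fun hd => zDih_ne_one (hpM ▸ hsq p hd)
  obtain ⟨j, hj⟩ := exists_r_of_sq_ne_one (d := q) fun hd => zDih_ne_one (hqM ▸ hsq q hd)
  have key : ∀ l : ZMod (2 * N), ∃ i' j', n * F.f (1, sr l) * n⁻¹ = F.f (r i', r j') := by
    intro l
    obtain ⟨⟨a, b⟩, hab⟩ := F.exists_eq (hS _ (F.mem (1, sr l)))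
    have hcm : F.f (a, b) * F.f (p, q) = F.f (p, q) * F.f (a, b) := by
      rw [hab, hpq, hx, conj_mul, conj_mul, ← map_mul, ← map_mul]
      congr 2
      simp
    obtain ⟨h1, h2⟩ := F.commutes_of_comm hcm
    rw [hi] at h1 hpM
    rw [hj] at h2 hqM
    cases a with
    | sr a =>
      exfalso
      have h3 := (commute_sr_iff a (r i)).1 h1.symm
      refine zDih_ne_one (hpM ▸ hsq _ ?_)
      rcases h3 with e | e | e | e
      · rw [e, mul_one]
      · rw [e, zDih_sq]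
      · cases e
      · rw [zDih, sr_mul_r] at e; cases e
    | r i' =>
      cases b with
      | sr b =>
        exfalso
        have h3 := (commute_sr_iff b (r j)).1 h2.symm
        refine zDih_ne_one (hqM ▸ hsq _ ?_)
        rcases h3 with e | e | e | e
        · rw [e, mul_one]
        · rw [e, zDih_sq]
        · cases e
        · rw [zDih, sr_mul_r] at e; cases e
      | r j' => exact ⟨i', j', hab.symm⟩
  obtain ⟨a₀, b₀, h₀⟩ := key 0
  obtain ⟨a₁, b₁, h₁⟩ := key 1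
  have hcm : n * F.f (1, sr 0) * n⁻¹ * (n * F.f (1, sr 1) * n⁻¹) =
      n * F.f (1, sr 1) * n⁻¹ * (n * F.f (1, sr 0) * n⁻¹) := by
    rw [h₀, h₁, ← map_mul, ← map_mul, Prod.mk_mul_mk, Prod.mk_mul_mk, r_mul_r, r_mul_r, r_mul_r,
      r_mul_r, add_comm a₀, add_comm b₀]
  rw [conj_mul, conj_mul] at hcm
  have h01 := (F.commutes_of_comm (mul_left_cancel (mul_right_cancel hcm))).2
  rw [sr_mul_sr, sr_mul_sr, r.injEq] at h01
  have h2 : ((2 : ℕ) : ZMod (2 * N)) = 0 := by push_cast; linear_combination h01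
  rw [ZMod.natCast_eq_zero_iff] at h2
  have := Nat.le_of_dvd (by norm_num) h2
  omega

/-- The three central involutions are pairwise non-conjugate. -/
theorem not_isConj_z₁ (hM : 2 ≤ M) (hN : 2 ≤ N) :
    ¬ IsConj F.z₁ F.z₂ ∧ ¬ IsConj F.z₁ F.z₃ := by
  haveI : Fact (Nat.Prime 2) := ⟨Nat.prime_two⟩
  have burn : ∀ x y : G, (∀ s ∈ (S : Subgroup G), s * x = x * s) →
      (∀ s ∈ (S : Subgroup G), s * y = y * s) → IsConj x y →
      ∃ n ∈ normalizer ((S : Subgroup G) : Set G), n * x * n⁻¹ = y := by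
    intro x y hx hy hxy
    obtain ⟨g, hg⟩ := isConj_iff.1 hxy
    obtain ⟨n, hn, hnx⟩ := S.conj_eq_normalizer_conj_of_mem_centralizer x g⁻¹
      (mem_centralizer_iff.2 fun s hs => hx s hs)
      (by rw [inv_inv, hg]; exact mem_centralizer_iff.2 fun s hs => hy s hs)
    refine ⟨n⁻¹, inv_mem hn, ?_⟩
    rw [inv_inv, ← hnx, inv_inv, hg]
  have h13 : ∀ n ∈ normalizer ((S : Subgroup G) : Set G), n * F.z₁ * n⁻¹ ≠ F.z₃ :=
    fun n hn => F.normalizer_z₁_ne_z₃ hM hN hn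
  have h23 : ∀ n ∈ normalizer ((S : Subgroup G) : Set G), n * F.z₂ * n⁻¹ ≠ F.z₃ :=
    fun n hn => F.swap.normalizer_z₁_ne_z₃ hN hM hn
  refine ⟨fun h => ?_, fun h => ?_⟩
  · obtain ⟨n, hn, hn12⟩ := burn _ _ F.z₁_central F.z₂_central h
    obtain ⟨c, hc⟩ := F.swap.even_of_two_le hN
    have hsq : F.f (1, r (c : ZMod (2 * N))) * F.f (1, r (c : ZMod (2 * N))) = F.z₂ := by
      rw [← map_mul, Prod.mk_mul_mk, one_mul, r_mul_r, ← Nat.cast_add, ← hc]; rfl
    obtain ⟨x, y, hx, hy, hxy⟩ := F.sq_coords (g := n) (a := F.f (1, r (c : ZMod (2 * N))))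
      ((mem_normalizer_iff.1 hn _).1 (F.mem _))
      (by rw [hsq, Frame.z₂, ← map_mul, Prod.mk_mul_mk, one_mul, zDih_sq, ← Prod.one_eq_mk, map_one])
    rw [hsq] at hxy
    rcases hx with rfl | rfl <;> rcases hy with rfl | rfl
    · rw [← Prod.one_eq_mk, map_one, conj_eq_one_iff] at hxy
      exact F.z₂_ne_one hxy
    · have : F.z₁ = F.z₂ := mul_left_cancel (mul_right_cancel (hn12.trans (hxy.symm : F.z₂ = _)))
      exact F.z₁_ne_z₂ this
    · exact F.z₁_ne_z₂ (not_swap S hn F.z₁_central hn12 hxy)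
    · exact h23 n hn hxy
  · obtain ⟨n, hn, hn13⟩ := burn _ _ F.z₁_central F.z₃_central h
    exact h13 n hn hn13

end Frame

end CfsgLib.InvChar.DProd
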