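import Cfsg.Agent.Lib.InvChar.DihedralProduct.Basics
import Cfsg.Agent.Lib.Amalgam.StrongAlperin
import Cfsg.Agent.Lib.Invol.WreathedFusion

/-!
Strong closure of a dihedral factor from the fusion of its involutions.
-/

set_option autoImplicit false
set_option linter.unusedSectionVars false
set_option linter.style.haveILetI false

namespace CfsgLib.InvChar.DProd

open DihedralGroup Subgroup

universe u

section General

variable {G : Type u} [Group G] [Finite G]

/-- A normal subgroup of a group meets a Sylow subgroup in a subgroup of index prime to `p`. -/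
theorem not_dvd_relIndex_inf {p : ℕ} {X : Type u} [Group X] [Finite X] (T C : Subgroup X)
    [C.Normal] (hT : ¬ p ∣ T.index) : ¬ p ∣ (T ⊓ C).relIndex C := by
  have h1 := relIndex_mul_relIndex (T ⊓ C) T (T ⊔ C) inf_le_left le_sup_left
  have h2 := relIndex_mul_relIndex (T ⊓ C) C (T ⊔ C) inf_le_right le_sup_right
  rw [inf_relIndex_left] at h1
  rw [inf_relIndex_right, relIndex_sup_right] at h2
  have hne : C.relIndex T ≠ 0 := (C.subgroupOf T).index_ne_zero_of_finite
  have e : T.relIndex C = T.relIndex (T ⊔ C) :=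
    Nat.eq_of_mul_eq_mul_right (Nat.pos_of_ne_zero hne) (by rw [h2, ← h1, mul_comm])
  intro h
  rw [inf_relIndex_right, e] at h
  exact hT (h.trans (Dvd.intro _ (relIndex_mul_index le_sup_left)))

/-- A `2`-element and an element of odd order generate the powers of their product. -/
theorem mem_of_parts {K : Subgroup G} {y : G} (ho : ∀ v ∈ zpowers y, Odd (orderOf v) → v ∈ K)
    (he : ∀ v ∈ zpowers y, (∃ k, orderOf v = 2 ^ k) → v ∈ K) : y ∈ K := by
  obtain ⟨k, m, hm, e⟩ := Nat.exists_eq_two_pow_mul_odd (orderOf_pos y).ne'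
  have h1 : y ^ 2 ^ k ∈ K := by
    refine ho _ (Subgroup.npow_mem_zpowers _ _) ?_
    rwa [orderOf_pow, e, Nat.gcd_mul_right_left, Nat.mul_div_cancel_left _ (by positivity)]
  have h2 : y ^ m ∈ K := by
    refine he _ (Subgroup.npow_mem_zpowers _ _) ⟨k, ?_⟩
    rw [orderOf_pow, e, Nat.gcd_mul_left_left, Nat.mul_div_cancel _ hm.pos]
  obtain ⟨a, b, hab⟩ : IsCoprime ((2 ^ k : ℕ) : ℤ) (m : ℤ) :=
    Nat.isCoprime_iff_coprime.2 (Nat.Coprime.pow_left k (Nat.coprime_two_left.2 hm))
  have : y = (y ^ 2 ^ k) ^ a * (y ^ m) ^ b := by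
    rw [← zpow_natCast y (2 ^ k), ← zpow_natCast y m, ← zpow_mul, ← zpow_mul, ← zpow_add,
      mul_comm _ a, mul_comm _ b, hab, zpow_one]
  rw [this]
  exact mul_mem (zpow_mem h1 a) (zpow_mem h2 b)

/-- An automorphism-like shift by a fixed involution is trivial in odd order. -/
theorem eq_of_shift {n x d : G} (hodd : Odd (orderOf n)) (hx : n * x * n⁻¹ = x * d)
    (hd : n * d * n⁻¹ = d) (hd2 : d * d = 1) : n * x * n⁻¹ = x := by
  have hpow : ∀ k : ℕ, n ^ k * x * (n ^ k)⁻¹ = x * d ^ k := by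
    intro k
    induction k with
    | zero => simp
    | succ k ih =>
      calc n ^ (k + 1) * x * (n ^ (k + 1))⁻¹ = n * (n ^ k * x * (n ^ k)⁻¹) * n⁻¹ := by
            rw [pow_succ']; group
        _ = (n * x * n⁻¹) * (n * d * n⁻¹) ^ k := by rw [ih, conj_pow]; group
        _ = x * d ^ (k + 1) := by rw [hx, hd, mul_assoc, ← pow_succ']
  have h := hpow (orderOf n)
  rw [pow_orderOf_eq_one, one_mul, inv_one, mul_one, left_eq_mul] at h
  obtain ⟨j, hj⟩ := hodd
  rw [hj, pow_succ, pow_mul, pow_two, hd2, one_pow, one_mul] at h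
  rw [hx, h, mul_one]

end General

namespace Frame

variable {G : Type u} [Group G] {S : Sylow 2 G} {M N : ℕ} [NeZero M] [NeZero N] (F : Frame S M N)

theorem mem_left {p : DihedralGroup (2 * M)} {u : DihedralGroup (2 * N)} :
    F.f (p, u) ∈ F.left ↔ u = 1 := by
  constructor
  · rintro ⟨q, hq⟩
    exact (congrArg Prod.snd (F.inj (show F.f (q, 1) = F.f (p, u) from hq))).symm
  · rintro rfl
    exact ⟨p, rfl⟩

theorem left_le : F.left ≤ (S : Subgroup G) := fun _ ⟨_, h⟩ => h ▸ F.mem _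

variable {F}

/-- The elements of odd order in the normaliser of a large subgroup preserve the first factor. -/
theorem IClosed.local_left [Finite G] (h1 : F.IClosed) (h2 : F.swap.IClosed) {H : Subgroup G}
    (hHS : H ≤ (S : Subgroup G))
    (hcen : (S : Subgroup G) ⊓ centralizer (H : Set G) ≤ H)
    (hfull : ¬ 2 ∣ ((S : Subgroup G) ⊓ normalizer (H : Set G)).relIndex (normalizer (H : Set G)))
    {n : G} (hn : n ∈ normalizer (H : Set G)) (hodd : Odd (orderOf n))
    {p : DihedralGroup (2 * M)} (hp : F.f (p, 1) ∈ H) :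
    n * F.f (p, 1) * n⁻¹ ∈ F.left := by
  haveI : Fact (Nat.Prime 2) := ⟨Nat.prime_two⟩
  have hconj : ∀ w ∈ H, n * w * n⁻¹ ∈ H := fun w hw => (mem_normalizer_iff.1 hn w).1 hw
  have fmul : ∀ a b c d, F.f (a, b) * F.f (c, d) = F.f (a * c, b * d) := fun a b c d => by
    rw [← map_mul, Prod.mk_mul_mk]
  have invol : ∀ p' : DihedralGroup (2 * M), p' * p' = 1 → F.f (p', 1) ∈ H →
      n * F.f (p', 1) * n⁻¹ ∈ F.left := by
    intro p' hp' hm
    obtain ⟨⟨q, u⟩, e⟩ := F.exists_eq (hHS (hconj _ hm))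
    obtain rfl : u = 1 := h1 p' hp' n q u e.symm
    exact ⟨q, e⟩
  by_cases hpp : p * p = 1
  · exact invol p hpp hp
  by_cases hrefl : ∃ i, F.f (sr i, 1) ∈ H
  · obtain ⟨i, hi⟩ := hrefl
    obtain ⟨j, rfl⟩ := exists_r_of_sq_ne_one hpp
    have hij : F.f (sr (i + j), 1) ∈ H := by
      have := mul_mem hi hp
      rwa [fmul, sr_mul_r, one_mul] at this
    have e : F.f (r j, 1) = F.f (sr i, 1) * F.f (sr (i + j), 1) := by
      rw [fmul, sr_mul_sr, one_mul, add_sub_cancel_left]
    rw [e, show n * (F.f (sr i, 1) * F.f (sr (i + j), 1)) * n⁻¹ =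
      (n * F.f (sr i, 1) * n⁻¹) * (n * F.f (sr (i + j), 1) * n⁻¹) by group]
    exact mul_mem (invol _ (sr_mul_self i) hi) (invol _ (sr_mul_self _) hij)
  -- the squares are fixed
  have hZ : ∀ w ∈ H, n * (w * w) * n⁻¹ = w * w := by
    set K := closure {v : G | ∃ w ∈ H, w * w = v} with hK
    let R : DihedralGroup (2 * M) × DihedralGroup (2 * N) → Prop := fun d =>
      (∃ i, d.1 = r (i + i)) ∧ ∃ i, d.2 = r (i + i)
    have hrot : ∀ v ∈ K, ∃ d, R d ∧ F.f d = v := by
      intro v hv
      induction hv using closure_induction with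
      | mem v hv =>
        obtain ⟨w, hw, rfl⟩ := hv
        obtain ⟨⟨a, b⟩, rfl⟩ := F.exists_eq (hHS hw)
        exact ⟨(a * a, b * b), ⟨sq_eq_r a, sq_eq_r b⟩, (fmul a b a b).symm⟩
      | one => exact ⟨1, ⟨⟨0, by rw [add_zero]; exact one_def⟩, ⟨0, by rw [add_zero]; exact one_def⟩⟩,
          map_one _⟩
      | mul x y _ _ hx hy =>
        obtain ⟨⟨a, b⟩, ⟨⟨i, hi⟩, j, hj⟩, rfl⟩ := hx
        obtain ⟨⟨c, d⟩, ⟨⟨k, hk⟩, l, hl⟩, rfl⟩ := hy
        simp only at hi hj hk hl
        subst hi hj hk hl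
        refine ⟨_, ⟨⟨i + k, ?_⟩, ⟨j + l, ?_⟩⟩, (fmul _ _ _ _).symm⟩ <;>
          simp only [r_mul_r] <;> congr 1 <;> abel
      | inv x _ hx =>
        obtain ⟨⟨a, b⟩, ⟨⟨i, hi⟩, j, hj⟩, rfl⟩ := hx
        simp only at hi hj
        subst hi hj
        refine ⟨_, ⟨⟨-i, ?_⟩, ⟨-j, ?_⟩⟩, map_inv _ _⟩ <;>
          simp only [Prod.inv_mk, inv_r] <;> congr 1 <;> abel
    have hKH : K ≤ H := (closure_le H).2 (by rintro _ ⟨w, hw, rfl⟩; exact mul_mem hw hw)
    have hKinv : ∀ v ∈ K, n * v * n⁻¹ ∈ K := by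
      intro v hv
      induction hv using closure_induction with
      | mem v hv =>
        obtain ⟨w, hw, rfl⟩ := hv
        exact subset_closure ⟨n * w * n⁻¹, hconj w hw, by group⟩
      | one => simp
      | mul x y _ _ hx hy =>
        rw [show n * (x * y) * n⁻¹ = (n * x * n⁻¹) * (n * y * n⁻¹) by group]
        exact mul_mem hx hy
      | inv x _ hx =>
        rw [show n * x⁻¹ * n⁻¹ = (n * x * n⁻¹)⁻¹ by group]
        exact inv_mem hx
    -- the involutions of the closure
    have hcases : ∀ v ∈ K, v * v = 1 → v = 1 ∨ v = F.f (zDih M, 1) ∨ v = F.f (1, zDih N) ∨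
        v = F.f (zDih M, zDih N) := by
      intro v hv h'
      obtain ⟨⟨a, b⟩, ⟨⟨i, hi⟩, j, hj⟩, rfl⟩ := hrot v hv
      simp only at hi hj
      rw [fmul, ← map_one F.f] at h'
      have h'' := Prod.mk.inj (F.inj h')
      subst hi hj
      rcases (r_mul_self_eq_one_iff _).1 h''.1 with e1 | e1 <;>
        rcases (r_mul_self_eq_one_iff _).1 h''.2 with e2 | e2 <;> rw [e1, e2]
      · exact Or.inl (map_one _)
      · exact Or.inr (Or.inr (Or.inl rfl))
      · exact Or.inr (Or.inl rfl)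
      · exact Or.inr (Or.inr (Or.inr rfl))
    have hfix1 : F.f (zDih M, 1) ∈ K →
        n * F.f (zDih M, 1) * n⁻¹ = F.f (zDih M, 1) := by
      intro hm
      obtain ⟨q, hq⟩ := invol _ zDih_sq (hKH hm)
      have hK' := hKinv _ hm
      have hsq : (n * F.f (zDih M, 1) * n⁻¹) * (n * F.f (zDih M, 1) * n⁻¹) = 1 := by
        rw [show (n * F.f (zDih M, 1) * n⁻¹) * (n * F.f (zDih M, 1) * n⁻¹) =
          n * (F.f (zDih M, 1) * F.f (zDih M, 1)) * n⁻¹ by group, fmul, zDih_sq, one_mul]
        rw [show F.f (1, 1) = 1 from map_one _]; group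
      rcases hcases _ hK' hsq with h' | h' | h' | h'
      · exfalso
        rw [mul_inv_eq_one, mul_eq_left, ← map_one F.f] at h'
        exact zDih_ne_one (congrArg Prod.fst (F.inj h'))
      · exact h'
      all_goals
        exfalso
        rw [← hq] at h'
        exact zDih_ne_one (congrArg Prod.snd (F.inj h')).symm
    have hfix2 : F.f (1, zDih N) ∈ K → n * F.f (1, zDih N) * n⁻¹ = F.f (1, zDih N) := by
      intro hm
      have hK' := hKinv _ hm
      obtain ⟨⟨q, u⟩, hq⟩ := F.exists_eq (hHS (hconj _ (hKH hm)))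
      obtain rfl : q = 1 := h2 (zDih N) zDih_sq n u q hq.symm
      have hsq : (n * F.f (1, zDih N) * n⁻¹) * (n * F.f (1, zDih N) * n⁻¹) = 1 := by
        rw [show (n * F.f (1, zDih N) * n⁻¹) * (n * F.f (1, zDih N) * n⁻¹) =
          n * (F.f (1, zDih N) * F.f (1, zDih N)) * n⁻¹ by group, fmul, zDih_sq, one_mul]
        rw [show F.f (1, 1) = 1 from map_one _]; group
      rcases hcases _ hK' hsq with h' | h' | h' | h'
      · exfalso
        rw [mul_inv_eq_one, mul_eq_left, ← map_one F.f] at h'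
        exact zDih_ne_one (congrArg Prod.snd (F.inj h'))
      rotate_left
      · exact h'
      all_goals
        exfalso
        rw [← hq] at h'
        exact zDih_ne_one (congrArg Prod.fst (F.inj h')).symm
    have hfix3 : F.f (zDih M, zDih N) ∈ K →
        n * F.f (zDih M, zDih N) * n⁻¹ = F.f (zDih M, zDih N) := by
      intro hm
      have hsq : (n * F.f (zDih M, zDih N) * n⁻¹) * (n * F.f (zDih M, zDih N) * n⁻¹) = 1 := by
        rw [show (n * F.f (zDih M, zDih N) * n⁻¹) * (n * F.f (zDih M, zDih N) * n⁻¹) =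
          n * (F.f (zDih M, zDih N) * F.f (zDih M, zDih N)) * n⁻¹ by group, fmul, zDih_sq, zDih_sq]
        rw [show F.f (1, 1) = 1 from map_one _]; group
      rcases hcases _ (hKinv _ hm) hsq with h' | h' | h' | h'
      · exfalso
        rw [mul_inv_eq_one, mul_eq_left, ← map_one F.f] at h'
        exact zDih_ne_one (congrArg Prod.fst (F.inj h'))
      · exfalso
        exact zDih_ne_one (h1 _ zDih_sq n⁻¹ (zDih M) (zDih N) (by rw [← h']; group))
      · exfalso
        exact zDih_ne_one (h2 (zDih N) zDih_sq n⁻¹ (zDih N) (zDih M)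
          (by rw [Frame.swap_f, Frame.swap_f, ← h']; group))
      · exact h'
    intro w hw
    refine CfsgLib.Invol.odd_fix_of_fix_invol (A := K) (fun a ha b hb => ?_)
      (S.isPGroup'.to_le (hKH.trans hHS))
      (mem_normalizer_fintype fun v hv => hKinv v hv) hodd (fun e he he2 => ?_)
      (subset_closure ⟨w, hw, rfl⟩)
    · obtain ⟨⟨a1, a2⟩, ⟨⟨i, hi⟩, j, hj⟩, rfl⟩ := hrot a ha
      obtain ⟨⟨b1, b2⟩, ⟨⟨k, hk⟩, l, hl⟩, rfl⟩ := hrot b hb
      simp only at hi hj hk hl
      subst hi hj hk hl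
      show _ = _
      rw [fmul, fmul, r_mul_r, r_mul_r, r_mul_r, r_mul_r, add_comm (i + i), add_comm (j + j)]
    · rcases hcases e he he2 with rfl | rfl | rfl | rfl
      · group
      · exact hfix1 he
      · exact hfix2 he
      · exact hfix3 he
  obtain ⟨j, rfl⟩ := exists_r_of_sq_ne_one hpp
  obtain ⟨⟨p', q'⟩, hx'⟩ := F.exists_eq (hHS (hconj _ hp))
  have hsqx : p' * p' = r j * r j ∧ q' * q' = 1 := by
    have h := hZ _ hp
    rw [show n * (F.f (r j, 1) * F.f (r j, 1)) * n⁻¹ =
      (n * F.f (r j, 1) * n⁻¹) * (n * F.f (r j, 1) * n⁻¹) by group, ← hx', fmul, fmul, one_mul] at h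
    exact Prod.mk.inj (F.inj h)
  have hcenM : ∀ e, e ∈ (S : Subgroup G) →
      e * F.f (zDih M, 1) = F.f (zDih M, 1) * e ∧ e * F.f (1, zDih N) = F.f (1, zDih N) * e := by
    intro e he
    obtain ⟨⟨a, b⟩, rfl⟩ := F.exists_eq he
    simp only [fmul, zDih_comm, mul_one, one_mul, and_self]
  have hzH1 : F.f (zDih M, 1) ∈ H :=
    hcen ⟨F.mem _, mem_centralizer_iff.2 fun w hw => (hcenM w (hHS hw)).1⟩
  have hzH2 : F.f (1, zDih N) ∈ H :=
    hcen ⟨F.mem _, mem_centralizer_iff.2 fun w hw => (hcenM w (hHS hw)).2⟩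
  by_cases hQ : ∃ p₀ q₀, F.f (p₀, q₀) ∈ H ∧ q₀ * q₀ ≠ 1
  · -- some second coordinate is a rotation
    obtain ⟨p₀, q₀, hy, hq₀⟩ := hQ
    obtain ⟨⟨p₁, q₁⟩, hy'⟩ := F.exists_eq (hHS (hconj _ hy))
    have hq₁ : q₁ * q₁ = q₀ * q₀ := by
      have h := hZ _ hy
      rw [show n * (F.f (p₀, q₀) * F.f (p₀, q₀)) * n⁻¹ =
        (n * F.f (p₀, q₀) * n⁻¹) * (n * F.f (p₀, q₀) * n⁻¹) by group, ← hy', fmul, fmul] at h
      exact (Prod.mk.inj (F.inj h)).2
    obtain ⟨i₁, hi₁⟩ := exists_r_of_sq_ne_one (hq₁ ▸ hq₀)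
    have claim : ∀ a b c d, F.f (a, b) ∈ H → n * F.f (a, b) * n⁻¹ = F.f (c, d) →
        (q₀ * b) * (q₀ * b) ≠ 1 → ∃ i, d = r i := by
      intro a b c d hw himg hne
      have hm := mul_mem hy hw
      have h := hZ _ hm
      rw [show n * (F.f (p₀, q₀) * F.f (a, b) * (F.f (p₀, q₀) * F.f (a, b))) * n⁻¹ =
        (n * F.f (p₀, q₀) * n⁻¹) * (n * F.f (a, b) * n⁻¹) *
          ((n * F.f (p₀, q₀) * n⁻¹) * (n * F.f (a, b) * n⁻¹)) by group, ← hy', himg, fmul, fmul, fmul,
        fmul] at h
      have h' : q₁ * d * (q₁ * d) = q₀ * b * (q₀ * b) := (Prod.mk.inj (F.inj h)).2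
      obtain ⟨k, hk⟩ := exists_r_of_sq_ne_one (h' ▸ hne)
      refine ⟨-i₁ + k, ?_⟩
      rw [← r_mul_r, ← inv_r, ← hk, ← hi₁, inv_mul_cancel_left]
    have hz1 : n * F.f (zDih M, 1) * n⁻¹ = F.f (zDih M, 1) := by
      obtain ⟨q, hq⟩ := invol _ zDih_sq hzH1
      change F.f (q, 1) = _ at hq
      have hq2 : q * q = 1 ∧ q ≠ 1 := by
        constructor
        · have : F.f (q, 1) * F.f (q, 1) = F.f (1, 1) := by
            rw [hq, show (n * F.f (zDih M, 1) * n⁻¹) * (n * F.f (zDih M, 1) * n⁻¹) =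
              n * (F.f (zDih M, 1) * F.f (zDih M, 1)) * n⁻¹ by group, fmul, zDih_sq, one_mul,
              show F.f (1, 1) = 1 from map_one _]
            group
          rw [fmul] at this
          exact (Prod.mk.inj (F.inj this)).1
        · rintro rfl
          rw [show F.f (1, 1) = 1 from map_one _, eq_comm, mul_inv_eq_one, mul_eq_left,
            ← map_one F.f] at hq
          exact zDih_ne_one (congrArg Prod.fst (F.inj hq))
      rw [← hq]
      cases q with
      | r i =>
        rcases (r_mul_self_eq_one_iff i).1 hq2.1 with e | e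
        · exact absurd e hq2.2
        · rw [e]
      | sr i => exact absurd ⟨i, by rw [hq]; exact hconj _ hzH1⟩ hrefl
    have hz2 : n * F.f (1, zDih N) * n⁻¹ = F.f (1, zDih N) := by
      obtain ⟨⟨q, u⟩, hq⟩ := F.exists_eq (hHS (hconj _ hzH2))
      obtain rfl : q = 1 := h2 (zDih N) zDih_sq n u q hq.symm
      have hu2 : u * u = 1 ∧ u ≠ 1 := by
        constructor
        · have : F.f (1, u) * F.f (1, u) = F.f (1, 1) := by
            rw [hq, show (n * F.f (1, zDih N) * n⁻¹) * (n * F.f (1, zDih N) * n⁻¹) =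
              n * (F.f (1, zDih N) * F.f (1, zDih N)) * n⁻¹ by group, fmul, zDih_sq, one_mul,
              show F.f (1, 1) = 1 from map_one _]
            group
          rw [fmul] at this
          exact (Prod.mk.inj (F.inj this)).2
        · rintro rfl
          rw [show F.f (1, 1) = 1 from map_one _, eq_comm, mul_inv_eq_one, mul_eq_left,
            ← map_one F.f] at hq
          exact zDih_ne_one (congrArg Prod.snd (F.inj hq))
      obtain ⟨i, rfl⟩ := claim 1 (zDih N) 1 u hzH2 hq.symm (by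
        rw [show q₀ * zDih N * (q₀ * zDih N) = q₀ * (zDih N * q₀) * zDih N by group, zDih_comm,
          show q₀ * (q₀ * zDih N) * zDih N = q₀ * q₀ * (zDih N * zDih N) by group, zDih_sq, mul_one]
        exact hq₀)
      rw [← hq]
      rcases (r_mul_self_eq_one_iff i).1 hu2.1 with e | e
      · exact absurd e hu2.2
      · rw [e]
    obtain ⟨i, hi⟩ := claim (r j) 1 p' q' hp hx'.symm (by rwa [mul_one])
    subst hi
    have hp' : ∃ k, p' = r k ∧ (r (k - j) * r (k - j) : DihedralGroup (2 * M)) = 1 := by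
      obtain ⟨k, rfl⟩ := exists_r_of_sq_ne_one (hsqx.1 ▸ hpp)
      refine ⟨k, rfl, ?_⟩
      have := hsqx.1
      rw [r_mul_r, r_mul_r, r.injEq] at this
      rw [r_mul_r, one_def, r.injEq]
      linear_combination this
    obtain ⟨k, rfl, hk⟩ := hp'
    have hd : n * F.f (r (k - j), r i) * n⁻¹ = F.f (r (k - j), r i) := by
      rcases (r_mul_self_eq_one_iff _).1 hk with e1 | e1 <;>
        rcases (r_mul_self_eq_one_iff i).1 hsqx.2 with e2 | e2 <;> rw [e1, e2]
      · rw [show F.f (1, 1) = 1 from map_one _]; group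
      · exact hz2
      · exact hz1
      · rw [show F.f (zDih M, zDih N) = F.f (zDih M, 1) * F.f (1, zDih N) by
          rw [fmul, mul_one, one_mul], show n * (F.f (zDih M, 1) * F.f (1, zDih N)) * n⁻¹ =
          (n * F.f (zDih M, 1) * n⁻¹) * (n * F.f (1, zDih N) * n⁻¹) by group, hz1, hz2]
    have hshift : n * F.f (r j, 1) * n⁻¹ = F.f (r j, 1) * F.f (r (k - j), r i) := by
      rw [← hx', fmul, one_mul, r_mul_r, add_sub_cancel]
    have hd2 : F.f (r (k - j), r i) * F.f (r (k - j), r i) = 1 := by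
      rw [fmul, hk, hsqx.2]; exact map_one _
    rw [eq_of_shift hodd hshift hd hd2]
    exact ⟨r j, rfl⟩
  · -- all second coordinates are involutory
    push Not at hQ
    have hq1 : ∀ a b, F.f (a, b) ∈ H → F.f (1, b) ∈ H := by
      intro a b hab
      refine hcen ⟨F.mem _, mem_centralizer_iff.2 fun w hw => ?_⟩
      obtain ⟨⟨c, d⟩, rfl⟩ := F.exists_eq (hHS hw)
      have e : d * b = b * d := by
        have h3 := hQ _ _ (show F.f (a * c, b * d) ∈ H from fmul a b c d ▸ mul_mem hab hw)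
        have hb := hQ _ _ hab
        have hd := hQ _ _ hw
        calc d * b = (b * b) * (d * b) * (d * d) := by rw [hb, hd, one_mul, mul_one]
          _ = b * (b * d * (b * d)) * d := by group
          _ = b * d := by rw [h3, mul_one]
      rw [fmul, fmul, mul_one, one_mul, e]
    have hfirst : ∀ a b, F.f (a, b) ∈ H → ∃ i, a = r i := by
      intro a b hab
      have h := mul_mem hab (inv_mem (hq1 a b hab))
      rw [← map_inv, Prod.inv_mk, fmul, inv_one, mul_one, mul_inv_cancel] at h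
      cases a with
      | r i => exact ⟨i, rfl⟩
      | sr i => exact absurd ⟨i, h⟩ hrefl
    set σ := F.f (sr 0, 1) with hσ
    have hσS : σ ∈ (S : Subgroup G) := F.mem _
    have hσH : σ ∉ H := fun h => hrefl ⟨0, h⟩
    have hσ2 : σ * σ = 1 := by rw [hσ, fmul, sr_mul_self, one_mul]; exact map_one _
    have hσinv : σ⁻¹ = σ := inv_eq_of_mul_eq_one_right hσ2
    have hinvert : ∀ w ∈ H, σ * w * σ⁻¹ = w⁻¹ := by
      intro w hw
      obtain ⟨⟨a, b⟩, rfl⟩ := F.exists_eq (hHS hw)
      obtain ⟨i, rfl⟩ := hfirst a b hw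
      have hb := hQ _ _ hw
      rw [hσinv, hσ, ← map_inv, fmul, fmul, Prod.inv_mk, inv_r, sr_mul_r, sr_mul_sr, zero_add,
        zero_sub, one_mul, mul_one, inv_eq_of_mul_eq_one_right hb]
    set C := centralizer (H : Set G) with hC
    have hσC : ∀ c ∈ C, σ * c * σ⁻¹ ∈ C := by
      intro c hc
      rw [hC, mem_centralizer_iff] at hc ⊢
      intro w hw
      have hw' : σ * w * σ⁻¹ ∈ H := by rw [hinvert w hw]; exact inv_mem hw
      have h := hc _ hw'
      rw [hσinv] at h ⊢
      calc w * (σ * c * σ) = (σ * σ) * w * σ * c * σ := by rw [hσ2]; group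
        _ = σ * ((σ * w * σ) * c) * σ := by group
        _ = σ * (c * (σ * w * σ)) * σ := by rw [h]
        _ = σ * c * σ * w * (σ * σ) := by group
        _ = σ * c * σ * w := by rw [hσ2, mul_one]
    have hnσ : n * σ * n⁻¹ * σ ∈ C := by
      rw [hC, mem_centralizer_iff]
      intro w hw
      have hw' : n⁻¹ * w * n ∈ H := by
        have := (mem_normalizer_iff.1 (inv_mem hn) w).1 hw
        rwa [inv_inv] at this
      have e2 := hinvert w⁻¹ (inv_mem hw)
      have e1 := hinvert _ hw'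
      rw [hσinv, inv_inv] at e2
      rw [hσinv] at e1
      calc w * (n * σ * n⁻¹ * σ) = n * σ * (σ * (n⁻¹ * w * n) * σ) * n⁻¹ * σ := by
            rw [show n * σ * (σ * (n⁻¹ * w * n) * σ) * n⁻¹ * σ =
              n * ((σ * σ) * (n⁻¹ * w * n)) * σ * n⁻¹ * σ by group, hσ2]
            group
        _ = n * σ * n⁻¹ * w⁻¹ * σ := by rw [e1]; group
        _ = n * σ * n⁻¹ * ((σ * σ) * w⁻¹ * σ) := by rw [hσ2]; group
        _ = n * σ * n⁻¹ * (σ * (σ * w⁻¹ * σ)) := by group
        _ = n * σ * n⁻¹ * σ * w := by rw [e2]; group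
    have hHC : H ≤ C := fun w hw => mem_centralizer_iff.2 fun v hv => by
      obtain ⟨⟨a, b⟩, rfl⟩ := F.exists_eq (hHS hw)
      obtain ⟨⟨c, d⟩, rfl⟩ := F.exists_eq (hHS hv)
      obtain ⟨i, rfl⟩ := hfirst a b hw
      obtain ⟨k, rfl⟩ := hfirst c d hv
      have e := mul_mem (inv_mem (hq1 _ _ hw)) (hq1 _ _ hv)
      have h3 := hQ _ _ (show F.f (r k * r i, d * b) ∈ H from fmul _ d _ b ▸ mul_mem hv hw)
      have hb := hQ _ _ hw
      have hd := hQ _ _ hv
      have e' : d * b = b * d := by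
        calc d * b = d * b * (b * d * (b * d)⁻¹) := by rw [mul_inv_cancel, mul_one]
          _ = (d * (b * b) * d) * (b * d)⁻¹ := by group
          _ = (b * d)⁻¹ := by rw [hb, mul_one, hd, one_mul]
          _ = d⁻¹ * b⁻¹ := mul_inv_rev _ _
          _ = d * b := by rw [inv_eq_of_mul_eq_one_right hb, inv_eq_of_mul_eq_one_right hd]
          _ = (b * b) * (d * b) * (d * d) := by rw [hb, hd, one_mul, mul_one]
          _ = b * ((b * d) * (b * d)) * d := by group
          _ = b * d := by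
            rw [show b * d * (b * d) = b * (d * b) * d by group]
            rw [show d * b = (d * b)⁻¹ from (inv_eq_of_mul_eq_one_right h3).symm, mul_inv_rev,
              inv_eq_of_mul_eq_one_right hb, inv_eq_of_mul_eq_one_right hd,
              show b * (b * d) * d = (b * b) * (d * d) by group, hb, hd]
            group
      rw [fmul, fmul, r_mul_r, r_mul_r, add_comm i, e']
    have hCN : C ≤ normalizer (H : Set G) := fun c hc => mem_normalizer_fintype fun u hu => by
      show c * u * c⁻¹ ∈ H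
      rw [← mem_centralizer_iff.1 hc u hu, mul_inv_cancel_right]
      exact hu
    have hnorm : ∀ c ∈ C, ∀ g ∈ normalizer (H : Set G), g * c * g⁻¹ ∈ C := by
      intro c hc g hg
      rw [hC, mem_centralizer_iff] at hc ⊢
      intro w hw
      have hw' := (mem_normalizer_iff.1 (inv_mem hg) w).1 hw
      rw [inv_inv] at hw'
      calc w * (g * c * g⁻¹) = g * ((g⁻¹ * w * g) * c) * g⁻¹ := by group
        _ = g * (c * (g⁻¹ * w * g)) * g⁻¹ := by rw [hc _ hw']
        _ = g * c * g⁻¹ * w := by group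
    let D : Subgroup G :=
      { carrier := {g | g ∈ C ∨ g * σ ∈ C}
        one_mem' := Or.inl (one_mem _)
        mul_mem' := by
          rintro a b (ha | ha) (hb | hb)
          · exact Or.inl (mul_mem ha hb)
          · exact Or.inr (by rw [mul_assoc]; exact mul_mem ha hb)
          · refine Or.inr ?_
            rw [show a * b * σ = (a * σ) * (σ⁻¹ * b * σ) by group, hσinv]
            exact mul_mem ha (hσinv ▸ hσC b hb :)
          · refine Or.inl ?_
            rw [show a * b = (a * σ) * (σ⁻¹ * (b * σ) * σ⁻¹) by group, hσinv]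
            exact mul_mem ha (hσinv ▸ hσC _ hb :)
        inv_mem' := by
          rintro a (ha | ha)
          · exact Or.inl (inv_mem ha)
          · refine Or.inr ?_
            rw [show a⁻¹ * σ = σ * (a * σ)⁻¹ * σ⁻¹ * (σ * σ) by group, hσ2, mul_one]
            exact hσC _ (inv_mem ha) }
    have hσD : σ ∈ D := Or.inr (by rw [hσ2]; exact one_mem _)
    have hσnC : σ ∉ C := fun h => hσH (hcen ⟨hσS, h⟩)
    have hidx : C.relIndex D = 2 := by
      rw [relIndex, index_eq_two_iff]
      refine ⟨⟨σ, hσD⟩, fun ⟨b, hb⟩ => ?_⟩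
      simp only [mem_subgroupOf, MulMemClass.mk_mul_mk]
      rcases hb with hb | hb
      · refine Or.inr ⟨hb, fun h => hσnC ?_⟩
        have := mul_mem (inv_mem hb) h
        rwa [inv_mul_cancel_left] at this
      · refine Or.inl ⟨hb, fun h => hσnC ?_⟩
        have := mul_mem (inv_mem h) hb
        rwa [inv_mul_cancel_left] at this
    have hCD : C ≤ D := fun c hc => Or.inl hc
    have hoddC : ¬ 2 ∣ H.relIndex C := by
      haveI : (C.subgroupOf (normalizer (H : Set G))).Normal :=
        ⟨fun c hc g => hnorm c hc g g.2⟩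
      have h := not_dvd_relIndex_inf (((S : Subgroup G) ⊓ normalizer (H : Set G)).subgroupOf
        (normalizer (H : Set G))) (C.subgroupOf (normalizer (H : Set G))) hfull
      simp only [Subgroup.subgroupOf, ← Subgroup.comap_inf] at h
      rw [← Subgroup.subgroupOf, ← Subgroup.subgroupOf, relIndex_subgroupOf hCN] at h
      have e : (S : Subgroup G) ⊓ normalizer (H : Set G) ⊓ C = H :=
        le_antisymm ((inf_le_inf_right _ inf_le_left).trans hcen)
          (le_inf (le_inf hHS le_normalizer) hHC)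
      rwa [e] at h
    set T := (S : Subgroup G) ⊓ D with hTdef
    have hHT : H ≤ T := le_inf hHS (hHC.trans hCD)
    have hoddT : ¬ 2 ∣ T.relIndex D := by
      have hHD : H.relIndex D = H.relIndex C * 2 := by
        rw [← hidx, relIndex_mul_relIndex _ _ _ hHC hCD]
      have hTH : 2 ∣ H.relIndex T := by
        obtain ⟨e, he⟩ := (S.isPGroup'.to_le (inf_le_left : T ≤ (S : Subgroup G))).index
          (H.subgroupOf T)
        rcases e with _ | e
        · exfalso
          rw [pow_zero, index_eq_one, subgroupOf_eq_top] at he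
          exact hσH (he ⟨hσS, hσD⟩)
        · rw [relIndex, he]; exact dvd_pow_self 2 e.succ_ne_zero
      intro h
      have h4 : 2 * 2 ∣ H.relIndex D := by
        rw [← relIndex_mul_relIndex H T D hHT inf_le_right]
        exact mul_dvd_mul hTH h
      rw [hHD] at h4
      exact hoddC (Nat.dvd_of_mul_dvd_mul_right (by norm_num) h4)
    have hTp : IsPGroup 2 (T.subgroupOf D) :=
      (S.isPGroup'.to_le (inf_le_left : T ≤ (S : Subgroup G))).of_equiv
        (subgroupOfEquivOfLe inf_le_right).symm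
    let P : Sylow 2 D := hTp.toSylow hoddT
    have hTnD : T.map (MulAut.conj n).toMonoidHom ≤ D := by
      rintro _ ⟨t, ht, rfl⟩
      rcases (show t ∈ C ∨ t * σ ∈ C from ht.2) with hc | hc
      · exact Or.inl (hnorm t hc n hn)
      · refine Or.inr ?_
        simp only [MulEquiv.coe_toMonoidHom, MulAut.conj_apply]
        rw [show n * t * n⁻¹ * σ = (n * (t * σ) * n⁻¹) * (n * σ⁻¹ * n⁻¹ * σ) by group, hσinv]
        exact mul_mem (hnorm _ hc n hn) hnσ
    obtain ⟨Q, hQle⟩ := ((S.isPGroup'.to_le (inf_le_left : T ≤ (S : Subgroup G))).map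
      (MulAut.conj n).toMonoidHom).of_equiv (subgroupOfEquivOfLe hTnD).symm |>.exists_le_sylow
    obtain ⟨m, hm⟩ := MulAction.exists_smul_eq D Q P
    have hmove : ∀ t ∈ T, (m : G) * (n * t * n⁻¹) * (m : G)⁻¹ ∈ T := by
      intro t ht
      have hq : (⟨n * t * n⁻¹, hTnD ⟨t, ht, rfl⟩⟩ : D) ∈ (Q : Subgroup D) :=
        hQle (mem_subgroupOf.2 ⟨t, ht, rfl⟩)
      have hmem : m * ⟨n * t * n⁻¹, hTnD ⟨t, ht, rfl⟩⟩ * m⁻¹ ∈ (P : Subgroup D) := by
        rw [← hm, Sylow.coe_subgroup_smul]
        exact Subgroup.smul_mem_pointwise_smul _ (MulAut.conj m) _ hq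
      exact hmem
    obtain ⟨c, hc, hcmove⟩ : ∃ c ∈ C, ∀ t ∈ T, c * (n * t * n⁻¹) * c⁻¹ ∈ (S : Subgroup G) := by
      rcases (show (m : G) ∈ C ∨ (m : G) * σ ∈ C from m.2) with h | h
      · exact ⟨m, h, fun t ht => (hmove t ht).1⟩
      · refine ⟨σ * (m : G), ?_, fun t ht => ?_⟩
        · rw [show σ * (m : G) = σ * ((m : G) * σ) * σ⁻¹ by group]
          exact hσC _ h
        · rw [show σ * (m : G) * (n * t * n⁻¹) * (σ * (m : G))⁻¹ =
            σ * ((m : G) * (n * t * n⁻¹) * (m : G)⁻¹) * σ⁻¹ by group]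
          exact mul_mem (mul_mem hσS (hmove t ht).1) (inv_mem hσS)
    have hto : ∀ a : DihedralGroup (2 * M), a * a = 1 → F.f (a, 1) ∈ T →
        c * (n * F.f (a, 1) * n⁻¹) * c⁻¹ ∈ F.left := by
      intro a ha hat
      obtain ⟨⟨q, u⟩, e⟩ := F.exists_eq (hcmove _ hat)
      obtain rfl : u = 1 := h1 a ha (c * n) q u (by rw [e]; group)
      exact ⟨q, e⟩
    have hσj : F.f (sr j, 1) ∈ T := by
      have : F.f (sr j, 1) = σ * F.f (r j, 1) := by rw [hσ, fmul, sr_mul_r, zero_add, one_mul]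
      rw [this]
      exact mul_mem ⟨hσS, hσD⟩ (hHT hp)
    have e : F.f (r j, 1) = σ * F.f (sr j, 1) := by rw [hσ, fmul, sr_mul_sr, sub_zero, one_mul]
    have hfix : c * (n * F.f (r j, 1) * n⁻¹) * c⁻¹ = n * F.f (r j, 1) * n⁻¹ := by
      rw [← mem_centralizer_iff.1 hc _ (hconj _ hp), mul_inv_cancel_right]
    rw [← hfix, e, show c * (n * (σ * F.f (sr j, 1)) * n⁻¹) * c⁻¹ =
      (c * (n * σ * n⁻¹) * c⁻¹) * (c * (n * F.f (sr j, 1) * n⁻¹) * c⁻¹) by group]
    exact mul_mem (hto _ (sr_mul_self 0) ⟨hσS, hσD⟩) (hto _ (sr_mul_self j) hσj)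

/-- The subgroup `{u | u a u⁻¹` stays in the first factor for all `a` of a set`}`, on a normaliser. -/
theorem IClosed.pres_of_odd [Finite G] (h1 : F.IClosed) (h2 : F.swap.IClosed) {H : Subgroup G}
    (hHS : H ≤ (S : Subgroup G)) (hcen : (S : Subgroup G) ⊓ centralizer (H : Set G) ≤ H)
    (hfull : ¬ 2 ∣ ((S : Subgroup G) ⊓ normalizer (H : Set G)).relIndex (normalizer (H : Set G)))
    {n : G} (hn : n ∈ normalizer (H : Set G)) (hodd : Odd (orderOf n)) {a : G} (haH : a ∈ H)
    (hal : a ∈ F.left) : n * a * n⁻¹ ∈ F.left := by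
  obtain ⟨p, rfl⟩ := hal
  exact h1.local_left h2 hHS hcen hfull hn hodd haH

/-- Fusion of involutions gives strong closure of the first factor. -/
theorem IClosed.closed [Finite G] {F : Frame S M N} (h1 : F.IClosed) (h2 : F.swap.IClosed) :
    F.Closed := by
  haveI : Fact (Nat.Prime 2) := ⟨Nat.prime_two⟩
  intro p g q u hgx
  set x := F.f (p, 1) with hx
  set D := zpowers x with hD
  have hxS : x ∈ (S : Subgroup G) := F.mem _
  have hconjS : CfsgLib.Transfer.rconj g⁻¹ D ≤ (S : Subgroup G) := by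
    intro a ha
    rw [CfsgLib.Transfer.mem_rconj, inv_inv, hD] at ha
    obtain ⟨k, hk⟩ := Subgroup.mem_zpowers_iff.1 ha
    have e : a = (g * x * g⁻¹) ^ k := by rw [conj_zpow, hk]; group
    rw [e, hgx]
    exact zpow_mem (F.mem _) k
  obtain ⟨c, hc, w, y, hy, hgw, hw⟩ :=
    CfsgLib.Amalgam.agGood_of_le S D g⁻¹ (zpowers_le.2 hxS) hconjS
  -- chains keep elements of the first factor in it
  have chain : ∀ {D' : Subgroup G} {v : G}, CfsgLib.Amalgam.AGChain S D' v →
      ∀ a ∈ D', a ∈ F.left → v⁻¹ * a * v ∈ F.left := by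
    intro D' v hv
    induction hv with
    | one D' => intro a _ ha; simpa using ha
    | cons D' H L X z v hE hX hz hD' _ ih =>
      intro a haD ha
      let K : Subgroup G :=
        { carrier := {t | t ∈ normalizer (H : Set G) ∧ ∀ b ∈ H, b ∈ F.left → t * b * t⁻¹ ∈ F.left}
          one_mem' := ⟨one_mem _, fun b _ hb => by simpa using hb⟩
          mul_mem' := fun {s t} hs ht => ⟨mul_mem hs.1 ht.1, fun b hbH hb => by
            rw [show s * t * b * (s * t)⁻¹ = s * (t * b * t⁻¹) * s⁻¹ by group]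
            exact hs.2 _ ((mem_normalizer_iff.1 ht.1 b).1 hbH) (ht.2 b hbH hb)⟩
          inv_mem' := fun {t} ht => by
            have hpow : ∀ k : ℕ, t ^ k ∈ normalizer (H : Set G) ∧
                ∀ b ∈ H, b ∈ F.left → t ^ k * b * (t ^ k)⁻¹ ∈ F.left := by
              intro k
              induction k with
              | zero => exact ⟨by simp, fun b _ hb => by simpa using hb⟩
              | succ k ihk =>
                refine ⟨pow_mem ht.1 _, fun b hbH hb => ?_⟩
                rw [show t ^ (k + 1) * b * (t ^ (k + 1))⁻¹ = t * (t ^ k * b * (t ^ k)⁻¹) * t⁻¹ by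
                  rw [pow_succ']; group]
                exact ht.2 _ ((mem_normalizer_iff.1 ihk.1 b).1 hbH) (ihk.2 b hbH hb)
            have e : t⁻¹ = t ^ (orderOf t - 1) := inv_eq_of_mul_eq_one_right (by
              rw [← pow_succ', Nat.sub_add_cancel (orderOf_pos t), pow_orderOf_eq_one])
            show t⁻¹ ∈ normalizer (H : Set G) ∧ _
            rw [e]
            exact hpow _ }
      have hzK : z ∈ K := by
        have hle : (Cfsg.pResidual 2 ↥X).map X.subtype ≤ K := by
          rw [Cfsg.pResidual, MonoidHom.map_closure, Subgroup.closure_le]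
          rintro _ ⟨t, ht, rfl⟩
          have ht' : Odd (orderOf (t : G)) := by
            rw [Subgroup.orderOf_coe]
            exact Nat.coprime_two_right.1 ht
          exact ⟨hX.2.1 t.2, fun b hbH hb =>
            h1.pres_of_odd h2 hE.le hE.centric hE.full (hX.2.1 t.2) ht' hbH hb⟩
        exact hle hz
      have hmem := inv_mem hzK
      have h3 : z⁻¹ * a * z ∈ F.left := by simpa using hmem.2 a (hD' haD) ha
      have h4 : z⁻¹ * a * z ∈ CfsgLib.Transfer.rconj z D' := by
        rw [CfsgLib.Transfer.mem_rconj]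
        simpa [mul_assoc] using haD
      have := ih _ h4 h3
      rwa [show (z * v)⁻¹ * a * (z * v) = v⁻¹ * (z⁻¹ * a * z) * v by group]
  have hxl : x ∈ F.left := (F.mem_left).2 rfl
  have h3 := chain hw x (mem_zpowers x) hxl
  set b := w⁻¹ * x * w with hb
  have hbS : b ∈ (S : Subgroup G) := F.left_le h3
  have hgb : g * x * g⁻¹ = y⁻¹ * b * y := by
    have hcx : c⁻¹ * x * c = x := by
      rw [mul_assoc, mem_centralizer_iff.1 hc x (mem_zpowers x), inv_mul_cancel_left]
    rw [hb, ← inv_inv g, hgw]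
    conv_rhs => rw [← hcx]
    group
  let K : Subgroup G :=
    { carrier := {t | t ∈ normalizer ((S : Subgroup G) : Set G) ∧
        ∀ b ∈ F.left, t * b * t⁻¹ ∈ F.left ∧ t⁻¹ * b * t ∈ F.left}
      one_mem' := ⟨one_mem _, fun b hb => by simp [hb]⟩
      mul_mem' := fun {s t} hs ht => ⟨mul_mem hs.1 ht.1, fun b hb => by
        rw [show s * t * b * (s * t)⁻¹ = s * (t * b * t⁻¹) * s⁻¹ by group,
          show (s * t)⁻¹ * b * (s * t) = t⁻¹ * (s⁻¹ * b * s) * t by group]
        exact ⟨(hs.2 _ (ht.2 b hb).1).1, (ht.2 _ (hs.2 b hb).2).2⟩⟩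
      inv_mem' := fun {t} ht => ⟨inv_mem ht.1, fun b hb => by
        simpa using And.symm (ht.2 b hb)⟩ }
  have hyK : y ∈ K := by
    refine mem_of_parts (fun v hv hodd => ?_) fun v hv heven => ?_
    · have hvN : v ∈ normalizer ((S : Subgroup G) : Set G) := (zpowers_le.2 hy) hv
      have hfull : ¬ 2 ∣ ((S : Subgroup G) ⊓ normalizer ((S : Subgroup G) : Set G)).relIndex
          (normalizer ((S : Subgroup G) : Set G)) := by
        rw [inf_eq_left.2 le_normalizer]
        exact fun h => S.not_dvd_index (h.trans (relIndex_dvd_index_of_le le_normalizer))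
      refine ⟨hvN, fun b hb => ⟨h1.pres_of_odd h2 le_rfl inf_le_left hfull hvN hodd
        (F.left_le hb) hb, ?_⟩⟩
      simpa using h1.pres_of_odd h2 le_rfl inf_le_left hfull (inv_mem hvN)
        (by rwa [orderOf_inv]) (F.left_le hb) hb
    · obtain ⟨k, hk⟩ := heven
      have hvN : v ∈ normalizer ((S : Subgroup G) : Set G) := (zpowers_le.2 hy) hv
      have hvS : v ∈ (S : Subgroup G) := by
        have hp : IsPGroup 2 (zpowers v) := IsPGroup.of_card (n := k) (by rw [Nat.card_zpowers, hk])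
        have hsup := hp.to_sup_of_normal_right' S.isPGroup' (zpowers_le.2 hvN)
        exact (S.is_maximal' hsup le_sup_right).le (mem_sup_left (mem_zpowers v))
      have key : ∀ v ∈ (S : Subgroup G), ∀ b ∈ F.left, v * b * v⁻¹ ∈ F.left := by
        intro v hv b hb
        obtain ⟨⟨a1, a2⟩, rfl⟩ := F.exists_eq hv
        obtain ⟨p', rfl⟩ := hb
        show F.f (a1, a2) * F.f (p', 1) * (F.f (a1, a2))⁻¹ ∈ F.left
        rw [← map_inv, ← map_mul, ← map_mul, Prod.inv_mk, Prod.mk_mul_mk, Prod.mk_mul_mk, mul_one,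
          mul_inv_cancel]
        exact (F.mem_left).2 rfl
      exact ⟨hvN, fun b hb =>
        ⟨key v hvS b hb, by simpa using key v⁻¹ (inv_mem hvS) b hb⟩⟩
  have h5 := (hyK.2 b h3).2
  rw [← hgb, hgx] at h5
  exact (F.mem_left).1 h5

end Frame

end CfsgLib.InvChar.DProd
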