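import Cfsg.Agent.Lib.InvChar.DihedralProduct.Reflection

/-!
Second factor a four-group: the element of order 3 acting on it.
-/

set_option autoImplicit false
set_option linter.unusedSectionVars false

namespace CfsgLib.InvChar.DProd

open DihedralGroup Subgroup

theorem four_sq : ∀ v : DihedralGroup (2 * 1), v * v = 1 := by decide

theorem four_comm : ∀ v w : DihedralGroup (2 * 1), v * w = w * v := by decide

theorem four_cases : ∀ a b : DihedralGroup (2 * 1), a ≠ 1 → b ≠ 1 → a ≠ b →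
    ∀ v, v = 1 ∨ v = a ∨ v = b ∨ v = a * b := by decide

theorem four_exists_other : ∀ v : DihedralGroup (2 * 1), v ≠ 1 →
    ∃ v', v' ≠ 1 ∧ v' * v ≠ 1 := by decide

theorem four_cancel (v w : DihedralGroup (2 * 1)) : v * (v * w) = w := by
  rw [← mul_assoc, four_sq, one_mul]

theorem four_mul_ne_one {v w : DihedralGroup (2 * 1)} (h : v ≠ w) : v * w ≠ 1 := fun e =>
  h (by rw [← mul_one v, ← four_sq w, ← mul_assoc, e, one_mul])

variable {G : Type*} [Group G] [Finite G]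

/-- Burnside: elements centralising `S` that are conjugate are conjugate in the normaliser. -/
theorem exists_normalizer_conj (S : Sylow 2 G) {x y : G}
    (hx : ∀ s ∈ (S : Subgroup G), s * x = x * s) (hy : ∀ s ∈ (S : Subgroup G), s * y = y * s)
    (h : IsConj x y) : ∃ n ∈ normalizer ((S : Subgroup G) : Set G), n * x * n⁻¹ = y := by
  haveI : Fact (Nat.Prime 2) := ⟨Nat.prime_two⟩
  obtain ⟨g, hg⟩ := isConj_iff.1 h
  obtain ⟨n, hn, hnx⟩ := S.conj_eq_normalizer_conj_of_mem_centralizer x g⁻¹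
    (mem_centralizer_iff.2 fun s hs => hx s hs)
    (by rw [inv_inv, hg]; exact mem_centralizer_iff.2 fun s hs => hy s hs)
  refine ⟨n⁻¹, inv_mem hn, ?_⟩
  rw [inv_inv, ← hnx, inv_inv, hg]

namespace Frame

variable {S : Sylow 2 G} {M : ℕ} [NeZero M] (F : Frame S M 1)

theorem f_mul (p p' : DihedralGroup (2 * M)) (q q' : DihedralGroup (2 * 1)) :
    F.f (p, q) * F.f (p', q') = F.f (p * p', q * q') := by
  rw [← map_mul, Prod.mk_mul_mk]

theorem f_split (x : DihedralGroup (2 * M)) (v : DihedralGroup (2 * 1)) :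
    F.f (x, v) = F.f (x, 1) * F.f (1, v) := by
  simp only [f_mul, mul_one, one_mul]

theorem central₂ {x : DihedralGroup (2 * M)} (hx : x = 1 ∨ x = zDih M)
    (v : DihedralGroup (2 * 1)) : ∀ s ∈ (S : Subgroup G), s * F.f (x, v) = F.f (x, v) * s := by
  intro s hs
  obtain ⟨⟨p, q⟩, rfl⟩ := F.exists_eq hs
  rw [f_mul, f_mul, four_comm q v]
  rcases hx with rfl | rfl <;> simp [zDih_comm]

/-- A conjugate in `S` of `z₁` by an element mapping a square root of it into `S` is `z₁`. -/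
theorem fix_z₁ (hM : 2 ≤ M) {g : G} (hg : g ∈ normalizer ((S : Subgroup G) : Set G)) :
    g * F.z₁ * g⁻¹ = F.z₁ := by
  obtain ⟨c, hc⟩ := F.even_of_two_le hM
  have hw : F.f (r (c : ZMod (2 * M)), 1) * F.f (r (c : ZMod (2 * M)), 1) = F.z₁ := by
    rw [f_mul, one_mul, r_mul_r, ← Nat.cast_add, ← hc]; rfl
  obtain ⟨⟨p, q⟩, hpq⟩ := F.exists_eq ((mem_normalizer_iff.1 hg _).1 (F.mem (r (c : ZMod (2 * M)), 1)))
  have he : g * F.z₁ * g⁻¹ = F.f (p * p, 1) := by
    rw [← hw, ← conj_mul, ← hpq, f_mul, four_sq]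
  have h1 : g * F.z₁ * g⁻¹ * (g * F.z₁ * g⁻¹) = 1 := by
    rw [conj_mul, Frame.z₁, F.f_sq_one zDih_sq (one_mul 1), mul_one, mul_inv_cancel]
  rw [he, f_mul, one_mul, ← map_one F.f, Prod.one_eq_mk] at h1
  obtain ⟨i, hi⟩ := sq_eq_r p
  have h2 := (F.f_ext h1).1
  rw [hi] at h2
  rcases (r_mul_self_eq_one_iff _).1 h2 with h3 | h3
  · rw [hi, h3, ← Prod.one_eq_mk, map_one, conj_eq_one_iff] at he
    exact absurd he F.z₁_ne_one
  · rw [he, hi, h3]; rfl

theorem conj_central (hM : 2 ≤ M) {g : G} (hg : g ∈ normalizer ((S : Subgroup G) : Set G))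
    {x : DihedralGroup (2 * M)} (hx : x = 1 ∨ x = zDih M) :
    g * F.f (x, 1) * g⁻¹ = F.f (x, 1) := by
  rcases hx with rfl | rfl
  · rw [← Prod.one_eq_mk, map_one, mul_one, mul_inv_cancel]
  · exact F.fix_z₁ hM hg

/-- The normaliser maps the centre of `S` into itself. -/
theorem image_central (hM : 2 ≤ M) {g : G} (hg : g ∈ normalizer ((S : Subgroup G) : Set G))
    {x : DihedralGroup (2 * M)} (hx : x = 1 ∨ x = zDih M) (v : DihedralGroup (2 * 1)) :
    ∃ x' v', (x' = 1 ∨ x' = zDih M) ∧ g * F.f (x, v) * g⁻¹ = F.f (x', v') := by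
  obtain ⟨⟨p, q⟩, hpq⟩ := F.exists_eq ((mem_normalizer_iff.1 hg _).1 (F.mem (x, v)))
  refine ⟨p, q, (central_iff hM p).1 fun d => ?_, hpq.symm⟩
  obtain ⟨s, hs, hsd⟩ : ∃ s ∈ (S : Subgroup G), g * s * g⁻¹ = F.f (d, 1) :=
    ⟨g⁻¹ * F.f (d, 1) * g, (mem_normalizer_iff.1 hg _).2 (by group; simpa using F.mem (d, 1)),
      by group⟩
  have hcm : F.f (d, 1) * F.f (p, q) = F.f (p, q) * F.f (d, 1) := by
    rw [hpq, ← hsd, conj_mul, conj_mul, F.central₂ hx v s hs]
  exact (F.commutes_of_comm hcm).1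

/-- `n` permutes the nonidentity elements of the four-group cyclically. -/
structure Cyc (n : G) (a b : DihedralGroup (2 * 1)) : Prop where
  mem : n ∈ normalizer ((S : Subgroup G) : Set G)
  ha : a ≠ 1
  hb : b ≠ 1
  hab : a ≠ b
  map_a : n * F.f (1, a) * n⁻¹ = F.f (1, b)
  map_b : n * F.f (1, b) * n⁻¹ = F.f (1, a * b)

namespace Cyc

variable {F} {n : G} {a b : DihedralGroup (2 * 1)}

theorem map_ab (h : F.Cyc n a b) : n * F.f (1, a * b) * n⁻¹ = F.f (1, a) := by
  have e : F.f (1, a * b) = F.f (1, a) * F.f (1, b) := by rw [f_mul, one_mul]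
  rw [e, ← conj_mul, h.map_a, h.map_b, f_mul, one_mul, four_comm a b, four_cancel]

theorem exists_map (h : F.Cyc n a b) (v : DihedralGroup (2 * 1)) :
    ∃ v', n * F.f (1, v) * n⁻¹ = F.f (1, v') := by
  rcases four_cases a b h.ha h.hb h.hab v with rfl | rfl | rfl | rfl
  · exact ⟨1, by rw [← Prod.one_eq_mk, map_one, mul_one, mul_inv_cancel]⟩
  · exact ⟨_, h.map_a⟩
  · exact ⟨_, h.map_b⟩
  · exact ⟨_, h.map_ab⟩

theorem sq (h : F.Cyc n a b) : F.Cyc (n * n) a (a * b) where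
  mem := mul_mem h.mem h.mem
  ha := h.ha
  hb := four_mul_ne_one h.hab
  hab := fun e => h.hb (by rwa [eq_comm, mul_eq_left] at e)
  map_a := by
    calc n * n * F.f (1, a) * (n * n)⁻¹ = n * (n * F.f (1, a) * n⁻¹) * n⁻¹ := by group
      _ = _ := by rw [h.map_a, h.map_b]
  map_b := by
    calc n * n * F.f (1, a * b) * (n * n)⁻¹ = n * (n * F.f (1, a * b) * n⁻¹) * n⁻¹ := by group
      _ = _ := by rw [h.map_ab, h.map_a, four_cancel]

theorem isConj_right (h : F.Cyc n a b) (hM : 2 ≤ M) {x : DihedralGroup (2 * M)}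
    (hx : x = 1 ∨ x = zDih M) {v : DihedralGroup (2 * 1)} (hv : v ≠ 1) :
    IsConj (F.f (x, v)) (F.f (x, a)) := by
  have step : ∀ v v', n * F.f (1, v) * n⁻¹ = F.f (1, v') → IsConj (F.f (x, v)) (F.f (x, v')) := by
    intro v v' e
    refine isConj_iff.2 ⟨n, ?_⟩
    rw [F.f_split x v, F.f_split x v', ← conj_mul, e, F.conj_central hM h.mem hx]
  rcases four_cases a b h.ha h.hb h.hab v with rfl | rfl | rfl | rfl
  · exact absurd rfl hv
  · exact IsConj.refl _
  · exact (step _ _ h.map_a).symm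
  · exact step _ _ h.map_ab

theorem not_isConj (h : F.Cyc n a b) (hM : 2 ≤ M) :
    ¬ IsConj (F.f (1, a)) F.z₁ ∧ ¬ IsConj (F.f (zDih M, a)) F.z₁ ∧
      ¬ IsConj (F.f (1, a)) (F.f (zDih M, a)) := by
  have h1 : ∀ {x}, (x = 1 ∨ x = zDih M) → ¬ IsConj (F.f (x, a)) F.z₁ := by
    intro x hx hc
    obtain ⟨m, hm, hma⟩ := exists_normalizer_conj S (F.central₂ hx a) F.z₁_central hc
    have e : F.f (x, a) = F.z₁ :=
      mul_left_cancel (mul_right_cancel (hma.trans (F.fix_z₁ hM hm).symm))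
    exact h.ha (F.f_ext e).2
  refine ⟨h1 (Or.inl rfl), h1 (Or.inr rfl), fun hc => ?_⟩
  obtain ⟨m, hm, hma⟩ := exists_normalizer_conj S (F.central₂ (Or.inl rfl) a)
    (F.central₂ (Or.inr rfl) a) hc
  have hback : m * F.f (zDih M, a) * m⁻¹ = F.f (1, a) := by
    rw [F.f_split, ← Frame.z₁, ← conj_mul, F.fix_z₁ hM hm, hma, Frame.z₁, f_mul, one_mul, zDih_sq]
  exact zDih_ne_one (F.f_ext (not_swap S hm (F.central₂ (Or.inl rfl) a) hma hback)).1.symm

end Cyc

/-- Thompson transfer moves each nonidentity element of the four-group onto each other one. -/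
theorem exists_map_right (hM : 2 ≤ M) (h2 : ∀ H : Subgroup G, H.Normal → H.index ≠ 2)
    {v v₀ : DihedralGroup (2 * 1)} (hv : v ≠ 1) (hv₀ : v₀ ≠ 1) (hne : v ≠ v₀) :
    ∃ n ∈ normalizer ((S : Subgroup G) : Set G), ∃ x, (x = 1 ∨ x = zDih M) ∧
      n * F.f (1, v) * n⁻¹ = F.f (x, v₀) := by
  have hQP : ((⊤ : Subgroup (DihedralGroup (2 * M))).prod (zpowers v₀)).map F.f ≤ (S : Subgroup G) := by
    rintro _ ⟨p, -, rfl⟩
    exact F.mem p
  have hidx : (zpowers v₀).index = 2 := by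
    haveI : Fact (Nat.Prime 2) := ⟨Nat.prime_two⟩
    have h1 := (zpowers v₀).card_mul_index
    rw [Nat.card_zpowers, orderOf_eq_prime (by rw [pow_two, four_sq]) hv₀,
      DihedralGroup.nat_card] at h1
    omega
  have hQi : (((⊤ : Subgroup (DihedralGroup (2 * M))).prod (zpowers v₀)).map F.f).relIndex
      (S : Subgroup G) = 2 := by
    rw [← F.range, MonoidHom.range_eq_map, relIndex_map_map_of_injective _ _ F.inj,
      relIndex_top_right, index_prod, hidx, index_top, one_mul]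
  obtain ⟨g, ⟨⟨p, q⟩, ⟨-, hq⟩, hpq⟩, hg⟩ := exists_extremal_conj_mem h2 S hQP hQi
    (F.f_sq_one (one_mul 1) (four_sq v)) (F.mem (1, v))
  have hgn : g ∈ normalizer ((S : Subgroup G) : Set G) := by
    have hmap : (S : Subgroup G).map (MulAut.conj g).toMonoidHom = (S : Subgroup G) := by
      refine eq_of_le_of_card_ge ?_ (Nat.card_congr
        ((S : Subgroup G).equivMapOfInjective _ (MulEquiv.injective _)).toEquiv).le
      rintro _ ⟨s, hs, rfl⟩
      exact hg s hs (F.central₂ (Or.inl rfl) v s hs)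
    refine mem_normalizer_iff.2 fun s => ⟨fun hs => ?_, fun hs => ?_⟩
    · exact hmap.le ⟨s, hs, rfl⟩
    · obtain ⟨s', hs', e⟩ := hmap.ge hs
      rwa [← mul_left_cancel (mul_right_cancel (e : g * s' * g⁻¹ = g * s * g⁻¹))]
  obtain ⟨x', v', hx', hv'⟩ := F.image_central hM hgn (Or.inl rfl) v
  obtain ⟨rfl, rfl⟩ := F.f_ext (hpq.trans hv')
  refine ⟨g, hgn, p, hx', ?_⟩
  obtain ⟨k, hk⟩ := mem_zpowers_iff.1 hq
  have hq2 : q = 1 ∨ q = v₀ := by
    rcases Int.even_or_odd' k with ⟨j, rfl | rfl⟩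
    · left; change v₀ ^ (2 * j) = q at hk; rw [← hk, zpow_mul, zpow_two, four_sq, one_zpow]
    · right; change v₀ ^ (2 * j + 1) = q at hk
      rw [← hk, zpow_add, zpow_mul, zpow_two, four_sq, one_zpow, one_mul, zpow_one]
  rcases hq2 with rfl | rfl
  · exfalso
    have e : F.f ((1 : DihedralGroup (2 * M)), v) = F.f (p, 1) :=
      mul_left_cancel (mul_right_cancel (hv'.trans (F.conj_central hM hgn hx').symm))
    exact hv (F.f_ext e).2
  · exact hpq.symm

/-- Coordinates in which an element of the normaliser permutes the four-group. -/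
theorem exists_cyc (F : Frame S M 1) (hM : 2 ≤ M) (h2 : ∀ H : Subgroup G, H.Normal → H.index ≠ 2) :
    ∃ F' : Frame S M 1, ∃ n a b, F'.Cyc n a b := by
  obtain ⟨n, hn, x₁, hx₁, h₁⟩ := F.exists_map_right hM h2 (v := r 1) (v₀ := sr 0)
    (by decide) (by decide) (by decide)
  obtain ⟨x₂, q, hx₂, hq⟩ := F.image_central hM hn (Or.inl rfl) (sr 0 : DihedralGroup (2 * 1))
  have hinv : ∀ {x : DihedralGroup (2 * M)}, (x = 1 ∨ x = zDih M) → x * x = 1 := by
    rintro x (rfl | rfl)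
    · exact one_mul 1
    · exact zDih_sq
  have hcen : ∀ {x : DihedralGroup (2 * M)}, (x = 1 ∨ x = zDih M) → ∀ d, x * d = d * x := by
    rintro x (rfl | rfl) d
    · simp
    · exact zDih_comm d
  have hmul : ∀ {x y : DihedralGroup (2 * M)}, (x = 1 ∨ x = zDih M) → (y = 1 ∨ y = zDih M) →
      (x * y = 1 ∨ x * y = zDih M) := by
    rintro x y (rfl | rfl) (rfl | rfl) <;> simp [zDih_sq]
  have hfix : ∀ {x}, (x = 1 ∨ x = zDih M) → ∀ v, n * F.f (x, v) * n⁻¹ =
      F.f (x, 1) * (n * F.f (1, v) * n⁻¹) := by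
    intro x hx v
    conv_lhs => rw [F.f_split, ← conj_mul, F.conj_central hM hn hx]
  rcases four_cases (r 1) (sr 0) (by decide) (by decide) (by decide) q with rfl | rfl | rfl | rfl
  · exfalso
    have e : F.f ((1 : DihedralGroup (2 * M)), (sr 0 : DihedralGroup (2 * 1))) = F.f (x₂, 1) :=
      mul_left_cancel (mul_right_cancel (hq.trans (F.conj_central hM hn hx₂).symm))
    cases (F.f_ext e).2
  · exfalso
    -- `n` would interchange the two elements modulo the central involution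
    have h2' : n * F.f (x₁, sr 0) * n⁻¹ = F.f (x₁ * x₂, r 1) := by
      rw [hfix hx₁, hq, f_mul, one_mul]
    rcases hmul hx₁ hx₂ with e | e
    · rw [e] at h2'
      exact absurd (F.f_ext (not_swap S hn (F.central₂ (Or.inl rfl) _) h₁ h2')).2 (by decide)
    · rw [e] at h2'
      have h3 : n * n * F.f (1, r 1) * (n * n)⁻¹ = F.f (zDih M, r 1) := by
        calc n * n * F.f (1, r 1) * (n * n)⁻¹ = n * (n * F.f (1, r 1) * n⁻¹) * n⁻¹ := by group
          _ = _ := by rw [h₁, h2']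
      have h4 : n * n * F.f (zDih M, r 1) * (n * n)⁻¹ = F.f (1, r 1) := by
        rw [F.f_split, ← conj_mul, F.conj_central hM (mul_mem hn hn) (Or.inr rfl), h3, f_mul, zDih_sq,
          one_mul]
      exact zDih_ne_one
        (F.f_ext (not_swap S (mul_mem hn hn) (F.central₂ (Or.inl rfl) _) h3 h4)).1.symm
  · exfalso
    rcases hmul hx₁ hx₂ with e | e
    · have : x₁ = x₂ := by
        rw [← mul_one x₁, ← hinv hx₂, ← mul_assoc, e, one_mul]
      subst this
      exact absurd (F.f_ext (mul_left_cancel (mul_right_cancel (h₁.trans hq.symm)))).2 (by decide)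
    · have h3 : n * F.f ((1 : DihedralGroup (2 * M)), r 1 * sr 0) * n⁻¹ = F.z₁ := by
        rw [← one_mul (1 : DihedralGroup (2 * M)), ← F.f_mul, ← conj_mul, h₁, hq, f_mul, four_sq, e]
        rfl
      exact zDih_ne_one (F.f_ext (mul_left_cancel (mul_right_cancel
        (h3.trans (F.fix_z₁ hM hn).symm)))).1.symm
  · have hm := hmul hx₁ hx₂
    let χ := mkChi 1 (x₁ * x₂) x₁ (hinv hm) (hinv hx₁) (hcen hm x₁)
    refine ⟨(F.swap.twist χ (mkChi_comm _ _ _ _ _ (hcen hm) (hcen hx₁))).swap, n, r 1, sr 0,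
      ⟨hn, by decide, by decide, by decide, ?_, ?_⟩⟩
    all_goals
      simp only [swap_f, twist_f, one_mul]
    · have e1 : χ (r 1) = x₂ := by
        show (if par 1 (1 : ZMod (2 * 1)) = 0 then 1 else x₁ * x₂ * x₁) = x₂
        rw [if_neg (by decide), hcen hx₁ x₂, mul_assoc, hinv hx₁, mul_one]
      have e2 : χ (sr 0) = x₁ * x₂ := by
        show (if par 1 (0 : ZMod (2 * 1)) = 0 then x₁ * x₂ else x₁) = _
        rw [if_pos (by decide)]
      rw [e1, e2, hfix hx₂, h₁, f_mul, one_mul, hcen hx₂]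
    · have e2 : χ (sr 0) = x₁ * x₂ := by
        show (if par 1 (0 : ZMod (2 * 1)) = 0 then x₁ * x₂ else x₁) = _
        rw [if_pos (by decide)]
      have e3 : χ (r 1 * sr 0) = x₁ := by
        rw [r_mul_sr]
        show (if par 1 ((0 : ZMod (2 * 1)) - 1) = 0 then x₁ * x₂ else x₁) = _
        rw [if_neg (by decide)]
      rw [e2, e3, hfix hm, hq, f_mul, one_mul, mul_assoc, hinv hx₂]; simp only [mul_one]

end Frame

end CfsgLib.InvChar.DProd
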