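import Cfsg.Agent.Lib.InvChar.DihedralProduct.CaseOne
import Cfsg.Agent.Lib.InvChar.DihedralProduct.CaseTwo
import Cfsg.Agent.Lib.InvChar.DihedralProduct.Closed
import Mathlib.GroupTheory.NoncommCoprod

/-!
A Sylow 2-subgroup that is a product of two dihedral groups has product fusion.
-/

set_option autoImplicit false
set_option linter.unusedSectionVars false

namespace CfsgLib.InvChar.DProd

open DihedralGroup Subgroup

variable {G : Type*} [Group G] [Finite G]

theorem exists_half {H : Subgroup G} (S : Sylow 2 G) (hH : H ≤ (S : Subgroup G)) {m : ℕ}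
    (hm : 2 ≤ m) (e : H ≃* DihedralGroup m) : ∃ M, 1 ≤ M ∧ m = 2 * M := by
  obtain ⟨k, hk⟩ := (S.2.to_le hH).exists_card_eq
  rw [Nat.card_congr e.toEquiv, DihedralGroup.nat_card] at hk
  rcases k with _ | _ | k
  · omega
  · omega
  · exact ⟨2 ^ k, Nat.one_le_two_pow, by rw [pow_succ, pow_succ] at hk; omega⟩

/-- Coordinates from an internal product of two dihedral groups. -/
theorem exists_frame (S : Sylow 2 G) {D₁ D₂ : Subgroup G}
    (hD : Cfsg.IsInternalDirectProduct D₁ D₂ (S : Subgroup G)) {M N : ℕ}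
    (e₁ : D₁ ≃* DihedralGroup (2 * M)) (e₂ : D₂ ≃* DihedralGroup (2 * N)) :
    Nonempty (Frame S M N) := by
  obtain ⟨-, -, hc, hd, hS⟩ := hD
  let f₁ : DihedralGroup (2 * M) →* G := D₁.subtype.comp e₁.symm.toMonoidHom
  let f₂ : DihedralGroup (2 * N) →* G := D₂.subtype.comp e₂.symm.toMonoidHom
  have hr₁ : f₁.range = D₁ := by
    rw [MonoidHom.range_comp, MonoidHom.range_eq_top.2 e₁.symm.surjective, ← MonoidHom.range_eq_map,
      range_subtype]
  have hr₂ : f₂.range = D₂ := by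
    rw [MonoidHom.range_comp, MonoidHom.range_eq_top.2 e₂.symm.surjective, ← MonoidHom.range_eq_map,
      range_subtype]
  refine ⟨⟨f₁.noncommCoprod f₂ fun a b => hc _ (e₁.symm a).2 _ (e₂.symm b).2, ?_, ?_⟩⟩
  · refine (injective_iff_map_eq_one _).2 ?_
    rintro ⟨a, b⟩ hab
    change f₁ a * f₂ b = 1 at hab
    have hmem : f₁ a ∈ D₁ ⊓ D₂ := mem_inf.2 ⟨(e₁.symm a).2, by
      rw [eq_inv_of_mul_eq_one_left hab]; exact inv_mem (e₂.symm b).2⟩
    rw [hd, mem_bot] at hmem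
    rw [hmem, one_mul] at hab
    exact Prod.ext ((map_eq_one_iff f₁ (Subtype.val_injective.comp e₁.symm.injective)).1 hmem)
      ((map_eq_one_iff f₂ (Subtype.val_injective.comp e₂.symm.injective)).1 hab)
  · exact (MonoidHom.noncommCoprod_range f₁ f₂ _).trans (by rw [hr₁, hr₂, hS])

theorem Frame.exists_closed {S : Sylow 2 G} {M N : ℕ} [NeZero M] [NeZero N] (F : Frame S M N)
    (hM : 2 ≤ M) (h2 : ∀ H : Subgroup G, H.Normal → H.index ≠ 2) :
    ∃ F' : Frame S M N, F'.Closed ∧ F'.swap.Closed := by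
  rcases Nat.lt_or_ge N 2 with hN | hN
  · obtain rfl : N = 1 := by have := NeZero.pos N; omega
    obtain ⟨F', h₁, h₂⟩ := F.exists_iClosed_one hM h2
    exact ⟨F', h₁.closed h₂, Frame.IClosed.closed (F := F'.swap) h₂ h₁⟩
  · obtain ⟨F', h₁, h₂⟩ := F.exists_iClosed_two_le hM hN h2
    exact ⟨F', h₁.closed h₂, Frame.IClosed.closed (F := F'.swap) h₂ h₁⟩

theorem Frame.isInternalDirectProduct {S : Sylow 2 G} {M N : ℕ} (F : Frame S M N) :
    Cfsg.IsInternalDirectProduct F.left F.right (S : Subgroup G) := by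
  refine ⟨?_, ?_, ?_, ?_, ?_⟩
  · rintro _ ⟨p, rfl⟩; exact F.mem _
  · rintro _ ⟨p, rfl⟩; exact F.mem _
  · rintro _ ⟨p, rfl⟩ _ ⟨q, rfl⟩
    show F.f (p, 1) * F.f (1, q) = F.f (1, q) * F.f (p, 1)
    rw [← map_mul, ← map_mul]
    simp
  · refine eq_bot_iff.2 ?_
    rintro x ⟨⟨p, rfl⟩, q, hq⟩
    have h : ((1 : DihedralGroup (2 * M)), q) = (p, 1) := F.inj hq
    obtain ⟨rfl, -⟩ := Prod.mk.injEq .. ▸ h
    exact mem_bot.2 (map_one _)
  · refine le_antisymm (sup_le ?_ ?_) fun x hx => ?_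
    · rintro _ ⟨p, rfl⟩; exact F.mem _
    · rintro _ ⟨p, rfl⟩; exact F.mem _
    · obtain ⟨⟨p, q⟩, rfl⟩ := F.exists_eq hx
      rw [show ((p, q) : DihedralGroup (2 * M) × DihedralGroup (2 * N)) = (p, 1) * (1, q) by simp,
        map_mul]
      exact mul_mem_sup ⟨p, rfl⟩ ⟨q, rfl⟩

noncomputable def Frame.leftEquiv {S : Sylow 2 G} {M N : ℕ} (F : Frame S M N) :
    F.left ≃* DihedralGroup (2 * M) :=
  (MonoidHom.ofInjective (f := F.f.comp (MonoidHom.inl _ _))
    (fun _ _ h => congrArg Prod.fst (F.inj h))).symm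

theorem Frame.swap_left {S : Sylow 2 G} {M N : ℕ} (F : Frame S M N) : F.swap.left = F.right :=
  rfl

end CfsgLib.InvChar.DProd
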