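import Cfsg.Agent.Lib.Transfer.Basic
import Mathlib.GroupTheory.Transfer

/-!
The Thompson transfer lemma with an extremal conjugate.
-/

set_option autoImplicit false

namespace CfsgLib.InvChar.DProd

open Subgroup

variable {G : Type*} [Group G] [Finite G]

/-- If `G` has no normal subgroup of index 2, an involution `u` of a Sylow 2-subgroup `P` has a
conjugate in any given maximal subgroup `Q` of `P`, by an element mapping `C_P(u)` into `P`. -/
theorem exists_extremal_conj_mem (h2 : ∀ N : Subgroup G, N.Normal → N.index ≠ 2) (P : Sylow 2 G)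
    {Q : Subgroup G} (hQP : Q ≤ (P : Subgroup G)) (hQi : Q.relIndex (P : Subgroup G) = 2) {u : G}
    (hu : u * u = 1) (huP : u ∈ (P : Subgroup G)) :
    ∃ g : G, g * u * g⁻¹ ∈ Q ∧ ∀ a ∈ (P : Subgroup G), a * u = u * a → g * a * g⁻¹ ∈ (P : Subgroup G) := by
  classical
  by_contra hne
  set Q' : Subgroup (P : Subgroup G) := Q.subgroupOf (P : Subgroup G) with hQ'
  have hQi' : Q'.index = 2 := hQi
  haveI : Q'.Normal := normal_of_index_eq_two hQi'
  have hcard : Nat.card ((P : Subgroup G) ⧸ Q') = 2 := by rw [← index_eq_card]; exact hQi'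
  haveI : Fact (Nat.Prime 2) := ⟨Nat.prime_two⟩
  haveI : IsCyclic ((P : Subgroup G) ⧸ Q') := isCyclic_of_prime_card hcard
  letI : CommGroup ((P : Subgroup G) ⧸ Q') := IsCyclic.commGroup
  obtain ⟨t, ht1, htu⟩ := (Nat.card_eq_two_iff' (1 : (P : Subgroup G) ⧸ Q')).1 hcard
  let φ : (P : Subgroup G) →* (P : Subgroup G) ⧸ Q' := QuotientGroup.mk' Q'
  let s : G ⧸ (P : Subgroup G) → G := Quotient.out
  have hs : ∀ q, (s q : G ⧸ (P : Subgroup G)) = q := fun q => QuotientGroup.out_eq' q
  let T : (P : Subgroup G).LeftTransversal := ⟨Set.range s, isComplement_range_left hs⟩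
  letI : Fintype (G ⧸ (P : Subgroup G)) := Fintype.ofFinite _
  have hui : u⁻¹ = u := inv_eq_of_mul_eq_one_right hu
  have hmem : ∀ q : G ⧸ (P : Subgroup G), (s q)⁻¹ * u * s (u • q) ∈ (P : Subgroup G) := by
    intro q
    have h1 : ((u * s (u • q) : G) : G ⧸ (P : Subgroup G)) = (s q : G ⧸ (P : Subgroup G)) := by
      rw [← smul_eq_mul, ← MulAction.Quotient.smul_coe, hs, hs, ← mul_smul, hu, one_smul]
    rw [mul_assoc]
    exact QuotientGroup.eq.1 h1.symm
  let val : G ⧸ (P : Subgroup G) → (P : Subgroup G) ⧸ Q' := fun q => φ ⟨_, hmem q⟩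
  have htr : MonoidHom.transfer φ u = ∏ q, val q := by
    rw [MonoidHom.transfer_def φ T u]
    unfold Subgroup.leftTransversals.diff
    refine Finset.prod_congr (Finset.ext fun _ => by simp) fun q _ => congrArg φ (Subtype.ext ?_)
    show (T.2.leftQuotientEquiv q : G)⁻¹ * ((u • T).2.leftQuotientEquiv q : G) = (s q)⁻¹ * u * s (u • q)
    rw [Subgroup.smul_apply_eq_smul_apply_inv_smul, Subgroup.IsComplement.leftQuotientEquiv_apply hs,
      Subgroup.IsComplement.leftQuotientEquiv_apply hs, hui, smul_eq_mul, mul_assoc]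
  -- pairs cancel, so only the fixed points count
  have hpair : ∀ q, val q * val (u • q) = 1 := by
    intro q
    rw [← map_mul]
    refine (congrArg φ (Subtype.ext ?_)).trans (map_one φ)
    show (s q)⁻¹ * u * s (u • q) * ((s (u • q))⁻¹ * u * s (u • (u • q))) = 1
    rw [← mul_smul, hu, one_smul]
    simp only [mul_assoc, mul_inv_cancel_left]
    rw [← mul_assoc u, hu, one_mul, inv_mul_cancel]
  set B := Finset.univ.filter (fun q : G ⧸ (P : Subgroup G) => u • q = q ∧ val q ≠ 1) with hB
  have hrest : ∏ q ∈ Finset.univ \ B, val q = 1 := by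
    refine Finset.prod_involution (fun q _ => u • q) (fun q _ => hpair q) ?_ ?_ ?_
    · intro q hq hne' heq
      exact (Finset.mem_sdiff.1 hq).2 (Finset.mem_filter.2 ⟨Finset.mem_univ _, heq, hne'⟩)
    · intro q hq
      refine Finset.mem_sdiff.2 ⟨Finset.mem_univ _, fun h => ?_⟩
      obtain ⟨-, h1, h2'⟩ := Finset.mem_filter.1 h
      have h3 : u • q = q := by
        rw [← mul_smul, hu, one_smul] at h1
        exact h1.symm
      rw [h3] at h2'
      exact (Finset.mem_sdiff.1 hq).2 (Finset.mem_filter.2 ⟨Finset.mem_univ _, h3, h2'⟩)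
    · intro q _
      rw [← mul_smul, hu, one_smul]
  have htot : MonoidHom.transfer φ u = t ^ B.card := by
    rw [htr, ← Finset.prod_sdiff (Finset.subset_univ B), hrest, one_mul]
    exact Finset.prod_eq_pow_card fun q hq => htu _ (Finset.mem_filter.1 hq).2.2
  -- the Sylow part of the centraliser
  let C : Subgroup G := (P : Subgroup G) ⊓ centralizer ({u} : Set G)
  have hC : ∀ a ∈ C, a * u = u * a := fun a ha => mem_centralizer_singleton_iff.1 ha.2
  have hinv : ∀ a ∈ C, ∀ q, u • q = q → u • (a • q) = a • q ∧ (val (a • q) = val q) := by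
    intro a ha q hq
    have h1 : u • (a • q) = a • q := by rw [← mul_smul, ← hC a ha, mul_smul, hq]
    refine ⟨h1, ?_⟩
    have hd : (s (a • q))⁻¹ * a * s q ∈ (P : Subgroup G) := by
      have h2 : ((a * s q : G) : G ⧸ (P : Subgroup G)) = (s (a • q) : G ⧸ (P : Subgroup G)) := by
        rw [hs, ← smul_eq_mul, ← MulAction.Quotient.smul_coe, hs]
      rw [mul_assoc]
      exact QuotientGroup.eq.1 h2.symm
    have h3 : (⟨_, hmem (a • q)⟩ : (P : Subgroup G)) = ⟨_, hd⟩ * ⟨_, hmem q⟩ * ⟨_, hd⟩⁻¹ := by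
      refine Subtype.ext ?_
      show (s (a • q))⁻¹ * u * s (u • a • q) =
        (s (a • q))⁻¹ * a * s q * ((s q)⁻¹ * u * s (u • q)) * ((s (a • q))⁻¹ * a * s q)⁻¹
      rw [h1, hq]
      simp only [mul_inv_rev, inv_inv, mul_assoc, mul_inv_cancel_left]
      rw [← mul_assoc a u, hC a ha]
      simp [mul_assoc]
    show φ _ = φ _
    rw [h3, map_mul, map_mul, map_inv, mul_inv_cancel_comm]
  let act : MulAction C {q : G ⧸ (P : Subgroup G) // q ∈ B} :=
    { smul := fun a q => ⟨(a : G) • q.1, by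
        obtain ⟨-, h1, h2'⟩ := Finset.mem_filter.1 q.2
        obtain ⟨h3, h4⟩ := hinv a a.2 q.1 h1
        exact Finset.mem_filter.2 ⟨Finset.mem_univ _, h3, h4 ▸ h2'⟩⟩
      one_smul := fun q => Subtype.ext (one_smul G q.1)
      mul_smul := fun a b q => Subtype.ext (mul_smul (a : G) b q.1) }
  have hCp : IsPGroup 2 C := P.2.to_le inf_le_left
  -- a fixed point of `C` is fixed by `u` and lies in `B`
  have hfix : ∀ q : G ⧸ (P : Subgroup G), (∀ a : C, (a : G) • q = q) → q ∈ B := by
    intro q hq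
    have huq : u • q = q := hq ⟨u, huP, mem_centralizer_singleton_iff.2 rfl⟩
    refine Finset.mem_filter.2 ⟨Finset.mem_univ _, huq, fun hv => hne ⟨(s q)⁻¹, ?_, fun a ha hau => ?_⟩⟩
    · have h := mem_subgroupOf.1 ((QuotientGroup.eq_one_iff _).1 hv)
      rw [inv_inv]
      change (s q)⁻¹ * u * s (u • q) ∈ Q at h
      rwa [huq] at h
    · have h := hq ⟨a, ha, mem_centralizer_singleton_iff.2 hau⟩
      rw [inv_inv, mul_assoc]
      refine QuotientGroup.eq.1 ?_
      rw [← smul_eq_mul, ← MulAction.Quotient.smul_coe, hs]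
      exact h.symm
  have hodd : Odd B.card := by
    have h1 := hCp.card_modEq_card_fixedPoints {q : G ⧸ (P : Subgroup G) // q ∈ B}
    have h3 := hCp.card_modEq_card_fixedPoints (G ⧸ (P : Subgroup G))
    have h4 : Nat.card (MulAction.fixedPoints C {q : G ⧸ (P : Subgroup G) // q ∈ B}) =
        Nat.card (MulAction.fixedPoints C (G ⧸ (P : Subgroup G))) :=
      Nat.card_congr
        { toFun := fun q => ⟨q.1.1, fun a => congrArg Subtype.val (q.2 a)⟩
          invFun := fun q => ⟨⟨q.1, hfix q.1 q.2⟩, fun a => Subtype.ext (q.2 a)⟩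
          left_inv := fun q => rfl
          right_inv := fun q => rfl }
    have h5 : ¬ 2 ∣ Nat.card (G ⧸ (P : Subgroup G)) := by
      rw [← index_eq_card]; exact P.not_dvd_index
    rw [h4, Nat.card_eq_finsetCard B] at h1
    have h6 : B.card % 2 = Nat.card (G ⧸ (P : Subgroup G)) % 2 := h1.trans h3.symm
    exact Nat.odd_iff.2 (by omega)
  have hne1 : MonoidHom.transfer φ u ≠ 1 := by
    rw [htot]
    obtain ⟨j, hj⟩ := hodd
    have ht2 : t ^ 2 = 1 :=
      orderOf_dvd_iff_pow_eq_one.1 ((orderOf_dvd_natCard t).trans hcard.dvd)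
    rw [hj, pow_succ, pow_mul, ht2, one_pow, one_mul]
    exact ht1
  have hsurj : Function.Surjective (MonoidHom.transfer φ) := by
    intro y
    rcases eq_or_ne y 1 with rfl | hy
    · exact ⟨1, map_one _⟩
    · exact ⟨u, (htu _ hne1).trans (htu _ hy).symm⟩
  refine h2 (MonoidHom.transfer φ).ker inferInstance ?_
  rw [index_ker, MonoidHom.range_eq_top.2 hsurj, card_top, hcard]

end CfsgLib.InvChar.DProd
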