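import Cfsg.Agent.Lib.InvChar.DihedralProduct.Basics

/-!
Changing the second factor of the coordinates by a homomorphism into the centre.
-/

set_option autoImplicit false
set_option linter.unusedSectionVars false

namespace CfsgLib.InvChar.DProd

open DihedralGroup

section Parity

variable {M : ℕ}

/-- Parity of a residue modulo `2 * M`. -/
def par (M : ℕ) : ZMod (2 * M) →+* ZMod 2 := ZMod.castHom (dvd_mul_right 2 M) (ZMod 2)

theorem zmod_two_cases : ∀ a : ZMod 2, a = 0 ∨ a = 1 := by decide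

theorem par_two_mul (k : ZMod (2 * M)) : par M (2 * k) = 0 := by
  rw [map_mul, map_ofNat, show (2 : ZMod 2) = 0 from rfl, zero_mul]

theorem par_nat_M_of_even {c : ℕ} (hc : M = c + c) : par M (M : ZMod (2 * M)) = 0 := by
  rw [map_natCast, ZMod.natCast_eq_zero_iff]
  exact ⟨c, by omega⟩

theorem exists_two_mul_of_par [NeZero M] {i : ZMod (2 * M)} (h : par M i = 0) : ∃ k, i = 2 * k := by
  rw [← ZMod.natCast_zmod_val i, map_natCast, ZMod.natCast_eq_zero_iff] at h
  obtain ⟨k, hk⟩ := h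
  exact ⟨k, by rw [← ZMod.natCast_zmod_val i, hk, Nat.cast_mul, Nat.cast_ofNat]⟩

/-- The homomorphism sending the two classes of reflections to given central involutions. -/
def mkChi (M : ℕ) {T : Type*} [Group T] (e₀ e₁ : T) (h₀ : e₀ * e₀ = 1) (h₁ : e₁ * e₁ = 1)
    (hc : e₀ * e₁ = e₁ * e₀) : DihedralGroup (2 * M) →* T where
  toFun d := match d with
    | r i => if par M i = 0 then 1 else e₀ * e₁
    | sr i => if par M i = 0 then e₀ else e₁
  map_one' := by rw [one_def]; simp
  map_mul' := by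
    have hi₀ : e₀ * (e₀ * e₁) = e₁ := by rw [← mul_assoc, h₀, one_mul]
    have hi₁ : e₁ * (e₀ * e₁) = e₀ := by rw [hc, ← mul_assoc, h₁, one_mul]
    have hi₂ : e₀ * e₁ * e₀ = e₁ := by rw [hc, mul_assoc, h₀, mul_one]
    have hi₃ : e₀ * e₁ * e₁ = e₀ := by rw [mul_assoc, h₁, mul_one]
    have hi₄ : e₀ * e₁ * (e₀ * e₁) = 1 := by rw [← mul_assoc, hi₂, h₁]
    intro x y
    rcases x with i | i <;> rcases y with j | j <;>
      simp only [r_mul_r, r_mul_sr, sr_mul_r, sr_mul_sr, map_add, map_sub] <;>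
      rcases zmod_two_cases (par M i) with hi | hi <;>
      rcases zmod_two_cases (par M j) with hj | hj <;>
      simp +decide [hi, hj, hi₀, hi₁, hi₂, hi₃, hi₄, h₀, h₁, hc.symm]

variable {T : Type*} [Group T] (e₀ e₁ : T) (h₀ : e₀ * e₀ = 1) (h₁ : e₁ * e₁ = 1)
  (hc : e₀ * e₁ = e₁ * e₀)

theorem mkChi_sr (i : ZMod (2 * M)) :
    mkChi M e₀ e₁ h₀ h₁ hc (sr i) = if par M i = 0 then e₀ else e₁ := rfl

theorem mkChi_zDih {c : ℕ} (hM : M = c + c) : mkChi M e₀ e₁ h₀ h₁ hc (zDih M) = 1 :=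
  if_pos (par_nat_M_of_even hM)

theorem mkChi_comm (h₀' : ∀ x, e₀ * x = x * e₀) (h₁' : ∀ x, e₁ * x = x * e₁)
    (d : DihedralGroup (2 * M)) (x : T) :
    mkChi M e₀ e₁ h₀ h₁ hc d * x = x * mkChi M e₀ e₁ h₀ h₁ hc d := by
  rcases d with i | i
  · show (if par M i = 0 then 1 else e₀ * e₁) * x = x * (if par M i = 0 then 1 else e₀ * e₁)
    split
    · simp
    · rw [mul_assoc, h₁', ← mul_assoc, h₀', mul_assoc]
  · show (if par M i = 0 then e₀ else e₁) * x = x * (if par M i = 0 then e₀ else e₁)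
    split
    · exact h₀' x
    · exact h₁' x

end Parity

namespace Frame

variable {G : Type*} [Group G] {S : Sylow 2 G} {M N : ℕ}

/-- New coordinates `(p, q) ↦ f (p, q * χ p)`. -/
def twist (F : Frame S M N) (χ : DihedralGroup (2 * M) →* DihedralGroup (2 * N))
    (hχ : ∀ p q, χ p * q = q * χ p) : Frame S M N where
  f := F.f.comp
    { toFun := fun x => (x.1, x.2 * χ x.1)
      map_one' := by simp
      map_mul' := fun x y => by
        simp only [Prod.fst_mul, Prod.snd_mul, map_mul, Prod.mk_mul_mk, Prod.mk.injEq, true_and]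
        simp only [mul_assoc]
        rw [← mul_assoc y.2, ← hχ x.1 y.2, mul_assoc] }
  inj := by
    refine F.inj.comp fun x y h => ?_
    obtain ⟨h1, h2⟩ := Prod.mk.injEq .. ▸ (h : (x.1, x.2 * χ x.1) = (y.1, y.2 * χ y.1))
    rw [h1] at h2
    exact Prod.ext h1 (mul_right_cancel h2)
  range := by
    rw [MonoidHom.range_comp, MonoidHom.range_eq_top.2 (fun y => ⟨(y.1, y.2 * (χ y.1)⁻¹), by simp⟩),
      ← MonoidHom.range_eq_map, F.range]

theorem twist_f (F : Frame S M N) (χ : DihedralGroup (2 * M) →* DihedralGroup (2 * N))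
    (hχ : ∀ p q, χ p * q = q * χ p) (p : DihedralGroup (2 * M)) (q : DihedralGroup (2 * N)) :
    (F.twist χ hχ).f (p, q) = F.f (p, q * χ p) := rfl

theorem twist_f_right (F : Frame S M N) (χ : DihedralGroup (2 * M) →* DihedralGroup (2 * N))
    (hχ : ∀ p q, χ p * q = q * χ p) (q : DihedralGroup (2 * N)) :
    (F.twist χ hχ).f (1, q) = F.f (1, q) := by
  rw [twist_f, map_one, mul_one]

/-- Reflections of the first factor in the same class are conjugate. -/
theorem isConj_sr [NeZero M] (F : Frame S M N) {i j : ZMod (2 * M)} (h : par M i = par M j)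
    (e : DihedralGroup (2 * N)) : IsConj (F.f (sr i, e)) (F.f (sr j, e)) := by
  obtain ⟨k, hk⟩ := exists_two_mul_of_par (i := i - j) (by rw [map_sub, h, sub_self])
  refine isConj_iff.2 ⟨F.f (r k, 1), ?_⟩
  rw [← map_inv, ← map_mul, ← map_mul]
  congr 1
  simp only [Prod.inv_mk, Prod.mk_mul_mk, inv_one, one_mul, mul_one, inv_r, r_mul_sr, sr_mul_r]
  congr 2
  linear_combination hk

end Frame

end CfsgLib.InvChar.DProd
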