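import Cfsg.Agent.Lib.InvChar.DihedralProduct.Central
import Cfsg.Agent.Lib.InvChar.DihedralProduct.Transfer
import Cfsg.Agent.Lib.InvChar.DihedralProduct.Twist

/-!
Thompson transfer applied to a reflection of the first factor.
-/

set_option autoImplicit false
set_option linter.unusedSectionVars false

namespace CfsgLib.InvChar.DProd

open DihedralGroup Subgroup

theorem sq_one_cases {M : ℕ} [NeZero M] {d : DihedralGroup (2 * M)} (h : d * d = 1) :
    d = 1 ∨ d = zDih M ∨ ∃ i, d = sr i := by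
  rcases d with i | i
  · exact ((r_mul_self_eq_one_iff i).1 h).imp_right Or.inl
  · exact Or.inr (Or.inr ⟨i, rfl⟩)

/-- The rotations. -/
def rotations (M : ℕ) : Subgroup (DihedralGroup (2 * M)) where
  carrier := {d | ∃ i, d = r i}
  one_mem' := ⟨0, one_def⟩
  mul_mem' := by rintro _ _ ⟨i, rfl⟩ ⟨j, rfl⟩; exact ⟨i + j, r_mul_r i j⟩
  inv_mem' := by rintro _ ⟨i, rfl⟩; exact ⟨-i, inv_r i⟩

theorem rotations_index (M : ℕ) : (rotations M).index = 2 := by
  refine index_eq_two_iff.2 ⟨sr 0, fun b => ?_⟩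
  rcases b with i | i
  · exact Or.inr ⟨⟨i, rfl⟩, fun ⟨j, hj⟩ => by rw [r_mul_sr] at hj; cases hj⟩
  · exact Or.inl ⟨⟨_, sr_mul_sr i 0⟩, fun ⟨j, hj⟩ => by cases hj⟩

namespace Frame

variable {G : Type*} [Group G] [Finite G] {S : Sylow 2 G} {M N : ℕ} [NeZero M] [NeZero N]
  (F : Frame S M N)

theorem sq_one_of_conj {g' : G} {p p' : DihedralGroup (2 * M)} {q q' : DihedralGroup (2 * N)} :
    F.f (p, q) * F.f (p, q) = 1 → g' * F.f (p, q) * g'⁻¹ = F.f (p', q') → p' * p' = 1 ∧ q' * q' = 1 := by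
  intro h h'
  have h1 : F.f (p', q') * F.f (p', q') = 1 := by rw [← h', conj_mul, h, mul_one, mul_inv_cancel]
  rw [← map_mul, ← map_one F.f, Prod.one_eq_mk, Prod.mk_mul_mk] at h1
  exact F.f_ext h1

theorem f_sq_one {p : DihedralGroup (2 * M)} {q : DihedralGroup (2 * N)} (hp : p * p = 1)
    (hq : q * q = 1) : F.f (p, q) * F.f (p, q) = 1 := by
  rw [← map_mul, Prod.mk_mul_mk, hp, hq, ← Prod.one_eq_mk, map_one]

/-- A conjugate of a reflection inside the rotations times the other factor. -/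
theorem exists_reflection_image (h2 : ∀ H : Subgroup G, H.Normal → H.index ≠ 2)
    (i : ZMod (2 * M)) {e : DihedralGroup (2 * N)} (he : e * e = 1) :
    ∃ (g : G) (x : DihedralGroup (2 * M)) (u : DihedralGroup (2 * N)),
      (x = 1 ∨ x = zDih M) ∧ u * u = 1 ∧ g * F.f (sr i, e) * g⁻¹ = F.f (x, u) ∧
      ∀ a ∈ (S : Subgroup G), a * F.f (sr i, e) = F.f (sr i, e) * a →
        g * a * g⁻¹ ∈ (S : Subgroup G) := by
  have hQP : ((rotations M).prod ⊤).map F.f ≤ (S : Subgroup G) := by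
    rintro _ ⟨p, -, rfl⟩
    exact F.mem p
  have hQi : (((rotations M).prod ⊤).map F.f).relIndex (S : Subgroup G) = 2 := by
    rw [← F.range, MonoidHom.range_eq_map, relIndex_map_map_of_injective _ _ F.inj,
      relIndex_top_right, index_prod, rotations_index, index_top, mul_one]
  have hu := F.f_sq_one (sr_mul_self i) he
  obtain ⟨g, ⟨⟨p, q⟩, ⟨⟨j, hj⟩, -⟩, hpq⟩, hg⟩ :=
    exists_extremal_conj_mem h2 S hQP hQi hu (F.mem _)
  obtain ⟨h3, h4⟩ := F.sq_one_of_conj hu hpq.symm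
  change p = r j at hj
  subst hj
  exact ⟨g, r j, q, (r_mul_self_eq_one_iff j).1 h3, h4, hpq.symm, hg⟩

end Frame

end CfsgLib.InvChar.DProd
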